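import Groth.Agent.Neutral.Open
import Groth.Agent.GrpSchLib.Dimension
import Groth.Agent.DimFormulaLib.Scheme
import Groth.Agent.S4955

/-!
Group schemes whose fibres have locally constant dimension: universal openness along the neutral components.
-/

set_option autoImplicit false
set_option backward.isDefEq.respectTransparency false
set_option backward.isDefEq.respectTransparency.types false
set_option linter.style.haveILetI false

universe u

open CategoryTheory CategoryTheory.Limits MonoidalCategory CartesianMonoidalCategory MonObj GrpObj AlgebraicGeometry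
open SGA3x

noncomputable section

namespace Groth.Agent.Neutral

section Field

variable {K : Type u} [Field K] {G : Over (Spec (CommRingCat.of K))} [GrpObj G] [LocallyOfFiniteType G.hom]

/-- Every nonempty open of a group scheme over a field has the dimension of the group. -/
theorem topologicalKrullDim_open (W : G.left.Opens) (hW : (W : Set G.left).Nonempty) :
    topologicalKrullDim ↥(W : Set G.left) = topologicalKrullDim G.left := by
  refine le_antisymm (Topology.IsInducing.subtypeVal.topologicalKrullDim_le) ?_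
  haveI : JacobsonSpace G.left := LocallyOfFiniteType.jacobsonSpace G.hom
  obtain ⟨x, hxW, hx⟩ := nonempty_inter_closedPoints hW W.2.isLocallyClosed
  rw [← GrpSchLib.ringKrullDim_stalk_eq_topologicalKrullDim (G := G) x hx,
    show topologicalKrullDim ↥(W : Set G.left) = _ from DimFormulaLib.topologicalKrullDim_eq_iSup_stalk (W : Scheme)]
  refine le_trans (le_of_eq ?_) (le_iSup (fun w : (W : Scheme) => ringKrullDim ((W : Scheme).presheaf.stalk w)) ⟨x, hxW⟩)
  exact ringKrullDim_eq_of_ringEquiv (W.stalkIso ⟨x, hxW⟩).symm.commRingCatIsoToRingEquiv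

theorem isIrreducible_neutralSet : IsIrreducible (neutralSet G) := by
  rw [neutralSet_field, GrpSchLib.connectedComponent_eq]
  exact isIrreducible_irreducibleComponent

theorem isOpen_neutralSet_field : IsOpen (neutralSet G) := by
  haveI : IsLocallyNoetherian G.left := LocallyOfFiniteType.isLocallyNoetherian G.hom
  rw [neutralSet_field, isOpen_iff_forall_mem_open]
  intro x hx
  obtain ⟨W, hW, hxW, hWsub⟩ := exists_open_subset_connectedComponentIn G.left isOpen_univ (Set.mem_univ x)
  rw [connectedComponentIn_univ, ← connectedComponent_eq hx] at hWsub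
  exact ⟨W, hWsub, hW, hxW⟩

end Field

variable {S : Scheme.{u}} {G : Over S} [GrpObj G] [LocallyOfFiniteType G.hom]
variable {V : S.Opens} {A : G.left.Opens} (hAV : A ≤ G.hom ⁻¹ᵁ V) (heV : ∀ t ∈ V, η[G].left t ∈ A)

theorem image_fibre_neutralSet (t : S) (T : Set G.left) :
    OpenSubgrp.ιs G t '' (OpenSubgrp.ιs G t ⁻¹' T ∩ neutralSet (Red.bc (S.fromSpecResidueField t) G)) =
      T ∩ neutralSet G ∩ G.hom ⁻¹' {t} := by
  rw [neutralSet_bc]
  ext x
  constructor
  · rintro ⟨y, ⟨hyT, hyN⟩, rfl⟩
    exact ⟨⟨hyT, hyN⟩, (OpenSubgrp.range_ιs G t).le ⟨y, rfl⟩⟩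
  · rintro ⟨⟨hxT, hxN⟩, hxt⟩
    obtain ⟨y, rfl⟩ := (OpenSubgrp.range_ιs G t).ge hxt
    exact ⟨y, ⟨hxT, hxN⟩, rfl⟩

include heV in
theorem unit_mem_preimage (t : S) (ht : t ∈ V) :
    GrpSchLib.unitPt (G := Red.bc (S.fromSpecResidueField t) G) ∈ OpenSubgrp.ιs G t ⁻¹' (A : Set G.left) := by
  have h : OpenSubgrp.ιs G t (GrpSchLib.unitPt (G := Red.bc (S.fromSpecResidueField t) G)) = η[G].left t :=
    OpenSubgrp.fiberι_unit t _
  exact Set.mem_preimage.2 (h.symm ▸ heV t ht)

include heV in
/-- In a fibre, the component of the unit in a chart is the trace of the neutral component. -/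
theorem connectedComponentIn_chart (t : S) (ht : t ∈ V) :
    connectedComponentIn ((A : Set G.left) ∩ G.hom ⁻¹' {t}) (η[G].left t) =
      (A : Set G.left) ∩ neutralSet G ∩ G.hom ⁻¹' {t} := by
  haveI : LocallyOfFiniteType (Red.bc (S.fromSpecResidueField t) G).hom :=
    MorphismProperty.pullback_snd (P := @LocallyOfFiniteType) _ _ ‹_›
  have hmem : η[G].left t ∈ (A : Set G.left) ∩ G.hom ⁻¹' {t} := ⟨heV t ht, hom_unit G t⟩
  refine Set.Subset.antisymm (fun x hx => ?_) ?_
  · obtain ⟨hxA, hxt⟩ := connectedComponentIn_subset _ _ hx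
    refine ⟨⟨hxA, ?_⟩, hxt⟩
    rw [neutralSet_eq]
    show x ∈ connectedComponentIn (G.hom ⁻¹' {G.hom x}) (η[G].left (G.hom x))
    rw [show G.hom x = t from hxt]
    exact connectedComponentIn_mono _ Set.inter_subset_right hx
  · rw [← image_fibre_neutralSet]
    refine IsPreconnected.subset_connectedComponentIn ?_ ?_ ?_
    · refine (IsPreirreducible.isPreconnected ?_).image _ (OpenSubgrp.ιs G t).continuous.continuousOn
      rw [Set.inter_comm]
      exact (isIrreducible_neutralSet (G := Red.bc (S.fromSpecResidueField t) G)).2.open_subset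
        ((A.2.preimage (OpenSubgrp.ιs G t).continuous).inter isOpen_neutralSet_field |> (Set.inter_comm _ _ ▸ ·))
        Set.inter_subset_left
    · refine ⟨GrpSchLib.unitPt (G := Red.bc (S.fromSpecResidueField t) G), ⟨?_, ?_⟩, OpenSubgrp.fiberι_unit t _⟩
      · exact unit_mem_preimage heV t ht
      · rw [neutralSet_field]; exact mem_connectedComponent
    · rw [image_fibre_neutralSet]
      exact fun x hx => ⟨hx.1.1, hx.2⟩

include heV in
theorem topologicalKrullDim_chart (t : S) (ht : t ∈ V) :
    topologicalKrullDim ↥(connectedComponentIn ((A : Set G.left) ∩ G.hom ⁻¹' {t}) (η[G].left t)) =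
      topologicalKrullDim ↥(G.hom ⁻¹' {t}) := by
  haveI : LocallyOfFiniteType (Red.bc (S.fromSpecResidueField t) G).hom :=
    MorphismProperty.pullback_snd (P := @LocallyOfFiniteType) _ _ ‹_›
  have hemb := OpenSubgrp.isEmbedding_ιs G t
  let W : (Red.bc (S.fromSpecResidueField t) G).left.Opens :=
    ⟨OpenSubgrp.ιs G t ⁻¹' (A : Set G.left) ∩ neutralSet (Red.bc (S.fromSpecResidueField t) G),
      (A.2.preimage (OpenSubgrp.ιs G t).continuous).inter isOpen_neutralSet_field⟩
  have hW : (W : Set (Red.bc (S.fromSpecResidueField t) G).left).Nonempty := by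
    refine ⟨GrpSchLib.unitPt (G := Red.bc (S.fromSpecResidueField t) G), ?_, ?_⟩
    · exact unit_mem_preimage heV t ht
    · rw [neutralSet_field]; exact mem_connectedComponent
  have h1 : topologicalKrullDim ↥(connectedComponentIn ((A : Set G.left) ∩ G.hom ⁻¹' {t}) (η[G].left t)) =
      topologicalKrullDim ↥(W : Set (Red.bc (S.fromSpecResidueField t) G).left) := by
    rw [connectedComponentIn_chart heV t ht, ← image_fibre_neutralSet]
    exact (IsHomeomorph.topologicalKrullDim_eq _ (hemb.homeomorphImage (W : Set (Red.bc (S.fromSpecResidueField t) G).left)).isHomeomorph).symm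
  have h2 : topologicalKrullDim ↥(G.hom ⁻¹' {t}) = topologicalKrullDim (Red.bc (S.fromSpecResidueField t) G).left := by
    rw [show G.hom ⁻¹' {t} = Set.range (OpenSubgrp.ιs G t) from (OpenSubgrp.range_ιs G t).symm]
    exact (IsHomeomorph.topologicalKrullDim_eq _ hemb.toHomeomorph.isHomeomorph).symm
  rw [h1, h2, topologicalKrullDim_open W hW]

theorem chartMap_preimage (v : (V : Scheme)) :
    A.ι '' (chartMap hAV ⁻¹' {v}) = (A : Set G.left) ∩ G.hom ⁻¹' {V.ι v} := by
  have hval : ∀ b, V.ι (chartMap hAV b) = G.hom (A.ι b) := fun b =>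
    congrArg (fun m => m b) (Scheme.Hom.resLE_comp_ι G.hom hAV)
  ext x
  constructor
  · rintro ⟨b, hb, rfl⟩
    exact ⟨b.2, by show G.hom (A.ι b) = V.ι v; rw [← hval, show chartMap hAV b = v from hb]⟩
  · rintro ⟨hxA, hxv⟩
    exact ⟨⟨x, hxA⟩, V.ι.isOpenEmbedding.injective ((hval _).trans hxv), rfl⟩

theorem image_connectedComponentIn_chartMap (v : (V : Scheme)) :
    A.ι '' connectedComponentIn (chartMap hAV ⁻¹' {v}) (chartSection heV v) =
      connectedComponentIn ((A : Set G.left) ∩ G.hom ⁻¹' {V.ι v}) (η[G].left (V.ι v)) := by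
  have hsec : A.ι (chartSection heV v) = η[G].left (V.ι v) :=
    congrArg (fun m => m v) (Scheme.Hom.resLE_comp_ι (η[G].left : S ⟶ G.left) heV)
  have hin : chartSection heV v ∈ chartMap hAV ⁻¹' {v} :=
    (congrArg (fun m : (V : Scheme) ⟶ (V : Scheme) => m v) (chartSection_chartMap hAV heV) :)
  refine Set.Subset.antisymm ?_ ?_
  · have := A.ι.continuous.image_connectedComponentIn_subset hin
    rwa [chartMap_preimage, hsec] at this
  · rw [← chartMap_preimage hAV v, ← hsec]
    intro x hx
    obtain ⟨b, -, rfl⟩ := connectedComponentIn_subset _ _ hx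
    let C := connectedComponentIn (A.ι '' (chartMap hAV ⁻¹' {v})) (A.ι (chartSection heV v))
    have hC : _root_.IsPreconnected (A.ι ⁻¹' C) :=
      (isPreconnected_connectedComponentIn : _root_.IsPreconnected C).preimage_of_isOpenMap
        A.ι.isOpenEmbedding.injective A.ι.isOpenEmbedding.isOpenMap
        ((connectedComponentIn_subset _ _).trans (Set.image_subset_range _ _))
    refine ⟨b, hC.subset_connectedComponentIn (x := chartSection heV v) ?_ ?_ hx, rfl⟩
    · exact mem_connectedComponentIn ⟨_, hin, rfl⟩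
    · intro c hc
      obtain ⟨c', hc', he⟩ := connectedComponentIn_subset _ _ hc
      rwa [← A.ι.isOpenEmbedding.injective he]

theorem connectedComponentIn_chartMap_eq (v : (V : Scheme)) :
    connectedComponentIn ((chartMap hAV).base ⁻¹' {v}) ((chartSection heV).base v) =
      A.ι ⁻¹' (neutralSet G ∩ G.hom ⁻¹' {V.ι v}) := by
  rw [← Set.preimage_image_eq (f := A.ι) (connectedComponentIn _ _) A.ι.isOpenEmbedding.injective,
    image_connectedComponentIn_chartMap hAV heV v, connectedComponentIn_chart heV (V.ι v) v.2]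
  ext b
  exact ⟨fun h => ⟨h.1.2, h.2⟩, fun h => ⟨⟨b.2, h.1⟩, h.2⟩⟩

theorem dim_chartMap (v : (V : Scheme)) :
    topologicalKrullDim ↥(connectedComponentIn ((chartMap hAV).base ⁻¹' {v}) ((chartSection heV).base v)) =
      topologicalKrullDim ↥(G.hom ⁻¹' {V.ι v}) := by
  rw [← topologicalKrullDim_chart heV (V.ι v) v.2, ← image_connectedComponentIn_chartMap hAV heV v]
  exact IsHomeomorph.topologicalKrullDim_eq _ (A.ι.isOpenEmbedding.isEmbedding.homeomorphImage _).isHomeomorph

include heV in
/-- The whole fibre of a chart has the dimension of the fibre. -/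
theorem dim_chart_fibre (v : (V : Scheme)) :
    topologicalKrullDim ↥((chartMap hAV).fiber v) = topologicalKrullDim ↥(G.hom ⁻¹' {V.ι v}) := by
  let t := V.ι v
  haveI : LocallyOfFiniteType (Red.bc (S.fromSpecResidueField t) G).hom :=
    MorphismProperty.pullback_snd (P := @LocallyOfFiniteType) _ _ ‹_›
  have hemb := OpenSubgrp.isEmbedding_ιs G t
  let W : (Red.bc (S.fromSpecResidueField t) G).left.Opens :=
    ⟨OpenSubgrp.ιs G t ⁻¹' (A : Set G.left), A.2.preimage (OpenSubgrp.ιs G t).continuous⟩
  have h1 : topologicalKrullDim ↥((chartMap hAV).fiber v) = topologicalKrullDim ↥(chartMap hAV ⁻¹' {v}) :=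
    IsHomeomorph.topologicalKrullDim_eq _ ((chartMap hAV).fiberHomeo v).isHomeomorph
  have h2 : topologicalKrullDim ↥(chartMap hAV ⁻¹' {v}) = topologicalKrullDim ↥(W : Set (Red.bc (S.fromSpecResidueField t) G).left) := by
    have e1 := IsHomeomorph.topologicalKrullDim_eq _
      (A.ι.isOpenEmbedding.isEmbedding.homeomorphImage (chartMap hAV ⁻¹' {v})).isHomeomorph
    have e2 := IsHomeomorph.topologicalKrullDim_eq _ (hemb.homeomorphImage (W : Set (Red.bc (S.fromSpecResidueField t) G).left)).isHomeomorph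
    have e3 : A.ι '' (chartMap hAV ⁻¹' {v}) = OpenSubgrp.ιs G t '' (W : Set (Red.bc (S.fromSpecResidueField t) G).left) := by
      rw [chartMap_preimage]
      show _ = OpenSubgrp.ιs G t '' (OpenSubgrp.ιs G t ⁻¹' (A : Set G.left))
      rw [Set.image_preimage_eq_inter_range, OpenSubgrp.range_ιs]
    rw [e1, e2, e3]
  have h3 : topologicalKrullDim ↥(G.hom ⁻¹' {t}) = topologicalKrullDim (Red.bc (S.fromSpecResidueField t) G).left := by
    rw [show G.hom ⁻¹' {t} = Set.range (OpenSubgrp.ιs G t) from (OpenSubgrp.range_ιs G t).symm]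
    exact (IsHomeomorph.topologicalKrullDim_eq _ hemb.toHomeomorph.isHomeomorph).symm
  rw [h1, h2, h3, topologicalKrullDim_open W ⟨_, unit_mem_preimage heV t v.2⟩]

theorem chart_irreducible : ∀ v : (V : Scheme),
    ∀ (K : Type u) [Field K] [Algebra (IsLocalRing.ResidueField ((V : Scheme).presheaf.stalk v)) K],
      IsIrreducible ((FBase.bcπ ((chartMap hAV).fiberToSpecResidueField v) K ≫ (chartMap hAV).fiberι v).base ⁻¹'
        connectedComponentIn ((chartMap hAV).base ⁻¹' {v}) ((chartSection heV).base v)) := by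
  let f := chartMap hAV
  have hcc := connectedComponentIn_chartMap_eq hAV heV
  have hval : ∀ b, V.ι (f b) = G.hom (A.ι b) := fun b =>
    congrArg (fun m => m b) (Scheme.Hom.resLE_comp_ι G.hom hAV)
  intro v K _ _
  let g := Spec.map (CommRingCat.ofHom (algebraMap (IsLocalRing.ResidueField ((V : Scheme).presheaf.stalk v)) K))
  let ψ : Spec (CommRingCat.of K) ⟶ S := (g ≫ (V : Scheme).fromSpecResidueField v) ≫ V.ι
  haveI : LocallyOfFiniteType (Red.bc ψ G).hom := MorphismProperty.pullback_snd (P := @LocallyOfFiniteType) _ _ ‹_›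
  let θ : FBase.bc (f.fiberToSpecResidueField v) K ⟶ (A : Scheme) :=
    FBase.bcπ (f.fiberToSpecResidueField v) K ≫ f.fiberι v
  have hP : IsPullback θ (pullback.snd (f.fiberToSpecResidueField v) g) f (g ≫ (V : Scheme).fromSpecResidueField v) :=
    (IsPullback.of_hasPullback (f.fiberToSpecResidueField v) g).paste_horiz
      (IsPullback.of_hasPullback f ((V : Scheme).fromSpecResidueField v))
  let j : FBase.bc (f.fiberToSpecResidueField v) K ⟶ (Red.bc ψ G).left :=
    hP.isoPullback.hom ≫ pullback.map f (g ≫ (V : Scheme).fromSpecResidueField v) G.hom ψ A.ι (𝟙 _) V.ι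
      (Scheme.Hom.resLE_comp_ι G.hom hAV) (by simp [ψ])
  have hj : j ≫ pullback.fst G.hom ψ = θ ≫ A.ι := by
    simp [j]
  have hpre : θ.base ⁻¹' connectedComponentIn (f.base ⁻¹' {v}) ((chartSection heV).base v) =
      j ⁻¹' neutralSet (Red.bc ψ G) := by
    rw [hcc, neutralSet_bc]
    ext z
    have hz : pullback.fst G.hom ψ (j z) = A.ι (θ z) := congrArg (fun m => m z) hj
    have hfz : f (θ z) = v := by
      have := congrArg (fun m : FBase.bc (f.fiberToSpecResidueField v) K ⟶ (V : Scheme) => m z) hP.w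
      exact this.trans (Scheme.fromSpecResidueField_apply v _)
    show A.ι (θ z) ∈ neutralSet G ∧ G.hom (A.ι (θ z)) = V.ι v ↔ pullback.fst G.hom ψ (j z) ∈ neutralSet G
    rw [hz, ← hval, hfz]
    exact and_iff_left rfl
  show IsIrreducible (θ.base ⁻¹' _)
  rw [hpre]
  refine (isIrreducible_neutralSet (G := Red.bc ψ G)).preimage j.isOpenEmbedding
    ⟨GrpSchLib.unitPt (G := Red.bc ψ G), ?_, ?_⟩
  · rw [neutralSet_field]; exact mem_connectedComponent
  · rw [Scheme.Hom.comp_base, TopCat.coe_comp, Set.range_comp, Set.range_eq_univ.2 hP.isoPullback.hom.surjective,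
      Set.image_univ]
    refine (Scheme.Pullback.range_map _ _ _ _ _ _ _ _ _).ge ⟨?_, ⟨_, rfl⟩⟩
    show pullback.fst G.hom ψ _ ∈ Set.range A.ι
    rw [Scheme.Opens.range_ι]
    have hu : η[Red.bc ψ G].left ≫ pullback.fst G.hom ψ = ψ ≫ η[G].left := by
      simp [Red.bc, Functor.obj.η_def]
    show pullback.fst G.hom ψ (η[Red.bc ψ G].left (IsLocalRing.closedPoint K)) ∈ A
    rw [show pullback.fst G.hom ψ (η[Red.bc ψ G].left (IsLocalRing.closedPoint K)) =
      η[G].left (ψ (IsLocalRing.closedPoint K)) from congrArg (fun m => m (IsLocalRing.closedPoint K)) hu]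
    exact heV _ ((V : Scheme).fromSpecResidueField v (g (IsLocalRing.closedPoint K))).2

variable [LocallyOfFinitePresentation G.hom] (hV : IsAffineOpen V) (hA : IsAffineOpen A)

include hV hA heV in
theorem chart_univOpen_flat (x₀ : (A : Scheme)) (hx₀ : A.ι x₀ ∈ neutralSet G)
    (hdim : ∃ U ∈ nhds (G.hom (A.ι x₀)), ∀ t ∈ U, topologicalKrullDim ↥(G.hom.base ⁻¹' {t}) =
      topologicalKrullDim ↥(G.hom.base ⁻¹' {G.hom (A.ι x₀)})) :
    EGA43.IsUnivOpenAt (chartMap hAV) x₀ ∧
      (IsReduced S → FBase.IsGeomReducedAt ((chartMap hAV).fiberToSpecResidueField ((chartMap hAV).base x₀))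
        ((chartMap hAV).asFiber x₀) → ((chartMap hAV).stalkMap x₀).hom.Flat) := by
  haveI : IsAffine (V : Scheme) := hV
  haveI : IsAffine (A : Scheme) := hA
  let f := chartMap hAV
  haveI : LocallyOfFinitePresentation f := inferInstance
  haveI : QuasiSeparated f := inferInstance
  haveI : QuasiCompact f := quasiCompact_of_compactSpace f
  have hcc := connectedComponentIn_chartMap_eq hAV heV
  have hdimv := dim_chartMap hAV heV
  have hval : ∀ b, V.ι (f b) = G.hom (A.ι b) := fun b =>
    congrArg (fun m => m b) (Scheme.Hom.resLE_comp_ι G.hom hAV)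
  have hmem : x₀ ∈ MoreMor.sectionComponents f (chartSection heV) := by
    show x₀ ∈ connectedComponentIn _ _
    rw [hcc]
    exact ⟨hx₀, (hval x₀).symm⟩
  have h := S4955.result f (chartSection heV) (chartSection_chartMap hAV heV) ?_ x₀ hmem ?_
  · obtain ⟨⟨U, hxU, hU⟩, hflat⟩ := h
    refine ⟨hU x₀ hmem hxU, fun hred => hflat ?_⟩
    haveI := hred
    infer_instance
  · exact chart_irreducible hAV heV
  · obtain ⟨U, hU, hUc⟩ := hdim
    refine ⟨V.ι ⁻¹' U, V.ι.continuous.continuousAt.preimage_mem_nhds (show U ∈ nhds (V.ι (f x₀)) by rw [hval]; exact hU),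
      fun z hz => ?_⟩
    rw [hdimv, hdimv, hval]
    exact hUc _ hz

omit [LocallyOfFiniteType G.hom] in
theorem isUnivOpenAt_of_isPullback {X Y Z W : Scheme.{u}} {p : X ⟶ Y} {q : X ⟶ Z} {f : Y ⟶ W} {g : Z ⟶ W}
    (hP : IsPullback p q f g) (z : X) (h : EGA43.IsUnivOpenAt f (p z)) : EGA43.IsUnivOpenAt q z := by
  intro Y' g' x' hx'
  have hsq : IsPullback (pullback.fst q g' ≫ p) (pullback.snd q g') f (g' ≫ g) :=
    (IsPullback.of_hasPullback q g').paste_horiz hP
  have h1 := h Y' (g' ≫ g) (hsq.isoPullback.hom x') (by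
    rw [← Scheme.Hom.comp_apply, hsq.isoPullback_hom_fst, Scheme.Hom.comp_apply]
    exact congrArg p hx')
  intro U hU
  have h2 := h1 (hsq.isoPullback.hom '' U) (hsq.isoPullback.hom.homeomorph.isOpenMap.image_mem_nhds hU)
  have himg : (pullback.snd f (g' ≫ g)) '' (hsq.isoPullback.hom '' U) = (pullback.snd q g') '' U := by
    rw [← Set.image_comp]
    refine Set.image_congr fun y _ => ?_
    exact congrArg (fun m => m y) hsq.isoPullback_hom_snd
  rw [himg] at h2
  convert! h2 using 2
  exact (congrArg (fun m => m x') hsq.isoPullback_hom_snd).symm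

end Groth.Agent.Neutral

end
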