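import Groth.Agent.Neutral.UnivOpen
import Groth.Agent.S9777
import Groth.Agent.S0402
import Groth.Agent.S10830

/-!
For locally constant fibre dimensions: the neutral component of a fibre lies in the closure of that of a more general
fibre; dimensions of the fibres under base change.
-/

set_option autoImplicit false
set_option backward.isDefEq.respectTransparency false
set_option backward.isDefEq.respectTransparency.types false
set_option linter.style.haveILetI false
set_option linter.unusedSectionVars false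

universe u

open CategoryTheory CategoryTheory.Limits MonoidalCategory CartesianMonoidalCategory MonObj GrpObj AlgebraicGeometry
open SGA3x

noncomputable section

namespace Groth.Agent.Neutral

variable {S : Scheme.{u}} {G : Over S} [GrpObj G] [LocallyOfFiniteType G.hom]

theorem exists_open_inter_eq (t : S) :
    ∃ O : Set G.left, IsOpen O ∧ O ∩ G.hom ⁻¹' {t} = neutralSet G ∩ G.hom ⁻¹' {t} := by
  haveI : LocallyOfFiniteType (Red.bc (S.fromSpecResidueField t) G).hom :=
    MorphismProperty.pullback_snd (P := @LocallyOfFiniteType) _ _ ‹_›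
  obtain ⟨O, hO, hOeq⟩ := (OpenSubgrp.isEmbedding_ιs G t).isInducing.isOpen_iff.1
    (isOpen_neutralSet_field (G := Red.bc (S.fromSpecResidueField t) G))
  refine ⟨O, hO, ?_⟩
  rw [← OpenSubgrp.range_ιs G t, ← Set.image_preimage_eq_inter_range, ← Set.image_preimage_eq_inter_range]
  exact (congrArg _ hOeq).trans (congrArg _ (neutralSet_bc _))

theorem dim_fibre_open (t : S) {O : Set G.left} (hO : IsOpen O)
    (hne : (O ∩ neutralSet G ∩ G.hom ⁻¹' {t}).Nonempty) :
    topologicalKrullDim ↥(O ∩ neutralSet G ∩ G.hom ⁻¹' {t}) = topologicalKrullDim ↥(G.hom ⁻¹' {t}) := by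
  haveI : LocallyOfFiniteType (Red.bc (S.fromSpecResidueField t) G).hom :=
    MorphismProperty.pullback_snd (P := @LocallyOfFiniteType) _ _ ‹_›
  have hemb := OpenSubgrp.isEmbedding_ιs G t
  let W : (Red.bc (S.fromSpecResidueField t) G).left.Opens :=
    ⟨OpenSubgrp.ιs G t ⁻¹' O ∩ neutralSet (Red.bc (S.fromSpecResidueField t) G),
      (hO.preimage (OpenSubgrp.ιs G t).continuous).inter isOpen_neutralSet_field⟩
  have hW : (W : Set (Red.bc (S.fromSpecResidueField t) G).left).Nonempty := by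
    rw [← image_fibre_neutralSet] at hne
    exact Set.image_nonempty.1 hne
  have h1 : topologicalKrullDim ↥(O ∩ neutralSet G ∩ G.hom ⁻¹' {t}) =
      topologicalKrullDim ↥(W : Set (Red.bc (S.fromSpecResidueField t) G).left) := by
    rw [← image_fibre_neutralSet]
    exact (IsHomeomorph.topologicalKrullDim_eq _ (hemb.homeomorphImage (W : Set _)).isHomeomorph).symm
  have h2 : topologicalKrullDim ↥(G.hom ⁻¹' {t}) = topologicalKrullDim (Red.bc (S.fromSpecResidueField t) G).left := by
    rw [show G.hom ⁻¹' {t} = Set.range (OpenSubgrp.ιs G t) from (OpenSubgrp.range_ιs G t).symm]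
    exact (IsHomeomorph.topologicalKrullDim_eq _ hemb.toHomeomorph.isHomeomorph).symm
  rw [h1, h2, topologicalKrullDim_open W hW]

theorem isIrreducible_fibre_open (t : S) {O : Set G.left} (hO : IsOpen O)
    (hne : (O ∩ neutralSet G ∩ G.hom ⁻¹' {t}).Nonempty) : IsIrreducible (O ∩ neutralSet G ∩ G.hom ⁻¹' {t}) := by
  haveI : LocallyOfFiniteType (Red.bc (S.fromSpecResidueField t) G).hom :=
    MorphismProperty.pullback_snd (P := @LocallyOfFiniteType) _ _ ‹_›
  rw [← image_fibre_neutralSet]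
  refine IsIrreducible.image ⟨?_, ?_⟩ _ (OpenSubgrp.ιs G t).continuous.continuousOn
  · rw [← image_fibre_neutralSet] at hne
    exact Set.image_nonempty.1 hne
  · exact (isIrreducible_neutralSet (G := Red.bc (S.fromSpecResidueField t) G)).2.open_subset
      ((hO.preimage (OpenSubgrp.ιs G t).continuous).inter isOpen_neutralSet_field) Set.inter_subset_right

theorem dim_ne_top (t : S) : topologicalKrullDim ↥(G.hom ⁻¹' {t}) ≠ ⊤ := by
  haveI : LocallyOfFiniteType (Red.bc (S.fromSpecResidueField t) G).hom :=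
    MorphismProperty.pullback_snd (P := @LocallyOfFiniteType) _ _ ‹_›
  haveI : IsLocallyNoetherian (Red.bc (S.fromSpecResidueField t) G).left :=
    LocallyOfFiniteType.isLocallyNoetherian (Red.bc (S.fromSpecResidueField t) G).hom
  have hemb := OpenSubgrp.isEmbedding_ιs G t
  rw [show G.hom ⁻¹' {t} = Set.range (OpenSubgrp.ιs G t) from (OpenSubgrp.range_ιs G t).symm,
    ← IsHomeomorph.topologicalKrullDim_eq _ hemb.toHomeomorph.isHomeomorph,
    ← GrpSchLib.ringKrullDim_stalk_eq_topologicalKrullDim (G := Red.bc (S.fromSpecResidueField t) G) _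
      GrpSchLib.isClosed_unitPt]
  exact ringKrullDim_ne_top

theorem subset_closure_of_specializes [LocallyOfFinitePresentation G.hom] {t s : S} (h : t ⤳ s)
    (hd : topologicalKrullDim ↥(G.hom ⁻¹' {t}) = topologicalKrullDim ↥(G.hom ⁻¹' {s})) :
    neutralSet G ∩ G.hom ⁻¹' {s} ⊆ closure (neutralSet G ∩ G.hom ⁻¹' {t}) := by
  obtain ⟨V, A, hV, hA, hsV, -, hAV, heA⟩ := exists_chart G ⊤ (fun _ => trivial) s
  have htV : t ∈ V := h.mem_open V.2 hsV
  obtain ⟨Ot, hOt, hOteq⟩ := exists_open_inter_eq (G := G) t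
  obtain ⟨Os, hOs, hOseq⟩ := exists_open_inter_eq (G := G) s
  let P : S → Set G.left := fun r => (A : Set G.left) ∩ neutralSet G ∩ G.hom ⁻¹' {r}
  have hePt : η[G].left t ∈ P t := ⟨⟨heA t htV, unit_mem t⟩, hom_unit G t⟩
  have hePs : η[G].left s ∈ P s := ⟨⟨heA s hsV, unit_mem s⟩, hom_unit G s⟩
  let Zc : TopologicalSpace.Closeds (A : Scheme) := ⟨closure (A.ι ⁻¹' P t), isClosed_closure⟩
  let I := Scheme.IdealSheafData.vanishingIdeal Zc
  let q : I.subscheme ⟶ S := I.subschemeι ≫ A.ι ≫ G.hom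
  haveI : LocallyOfFiniteType q := inferInstance
  let e : ∀ z : I.subscheme, G.left := fun z => A.ι (I.subschemeι z)
  have he : Topology.IsEmbedding e := A.ι.isOpenEmbedding.isEmbedding.comp I.subschemeι.isEmbedding
  have hrange : Set.range e = (A : Set G.left) ∩ closure (P t) := by
    rw [show e = A.ι ∘ I.subschemeι from rfl, Set.range_comp, Scheme.IdealSheafData.range_subschemeι,
      Scheme.IdealSheafData.coe_support_vanishingIdeal]
    show A.ι '' closure (A.ι ⁻¹' P t) = _
    rw [← A.ι.isOpenEmbedding.isOpenMap.preimage_closure_eq_closure_preimage A.ι.continuous,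
      Set.image_preimage_eq_inter_range, Scheme.Opens.range_ι, Set.inter_comm]
  obtain ⟨zt, hzt⟩ : η[G].left t ∈ Set.range e := by
    rw [hrange]; exact ⟨heA t htV, subset_closure hePt⟩
  have hsp : η[G].left t ⤳ η[G].left s := h.map (η[G].left : S ⟶ G.left).continuous
  obtain ⟨zs, hzs⟩ : η[G].left s ∈ Set.range e := by
    rw [hrange]; exact ⟨heA s hsV, hsp.mem_closed isClosed_closure (subset_closure hePt)⟩
  have hzsp : zt ⤳ zs := by rw [← he.isInducing.specializes_iff, hzt, hzs]; exact hsp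
  have hfib : ∀ (z : I.subscheme) (r : S), q z = r → Topology.IsEmbedding (fun y : q.fiber r => e (q.fiberι r y)) ∧
      Set.range (fun y : q.fiber r => e (q.fiberι r y)) = (A : Set G.left) ∩ closure (P t) ∩ G.hom ⁻¹' {r} := by
    intro z r _
    refine ⟨he.comp (q.fiberι r).isEmbedding, ?_⟩
    rw [show (fun y : q.fiber r => e (q.fiberι r y)) = e ∘ q.fiberι r from rfl, Set.range_comp, q.range_fiberι,
      show q ⁻¹' {r} = e ⁻¹' (G.hom ⁻¹' {r}) from rfl, Set.image_preimage_eq_inter_range, hrange, Set.inter_comm]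
  have hqt : q zt = t := by show G.hom (e zt) = t; rw [hzt]; exact hom_unit G t
  have hqs : q zs = s := by show G.hom (e zs) = s; rw [hzs]; exact hom_unit G s
  have hPt : (A : Set G.left) ∩ closure (P t) ∩ G.hom ⁻¹' {t} = P t := by
    refine Set.Subset.antisymm ?_ fun x hx => ⟨⟨hx.1.1, subset_closure hx⟩, hx.2⟩
    rintro x ⟨⟨hxA, hxc⟩, hxt⟩
    refine ⟨⟨hxA, ?_⟩, hxt⟩
    haveI : LocallyOfFiniteType (Red.bc (S.fromSpecResidueField t) G).hom :=
      MorphismProperty.pullback_snd (P := @LocallyOfFiniteType) _ _ inferInstance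
    obtain ⟨y, rfl⟩ := (OpenSubgrp.range_ιs G t).ge hxt
    have hy : y ∈ closure (neutralSet (Red.bc (S.fromSpecResidueField t) G)) := by
      rw [(OpenSubgrp.isEmbedding_ιs G t).closure_eq_preimage_closure_image]
      show OpenSubgrp.ιs G t y ∈ closure _
      refine closure_mono ?_ hxc
      rintro _ ⟨⟨-, hwN⟩, hwt⟩
      obtain ⟨w, rfl⟩ := (OpenSubgrp.range_ιs G t).ge hwt
      exact ⟨w, by rw [neutralSet_bc]; exact hwN, rfl⟩
    rw [neutralSet_field, isClosed_connectedComponent.closure_eq, ← neutralSet_field, neutralSet_bc] at hy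
    exact hy
  -- the dimension at the general point
  have hdt : topologicalKrullDim ↥(G.hom ⁻¹' {t}) ≤ FlatMor.fibreDimAt q zt := by
    refine le_iInf fun U => ?_
    obtain ⟨hemb, hran⟩ := hfib zt (q zt) rfl
    obtain ⟨O, hO, hOU⟩ := hemb.isInducing.isOpen_iff.1 U.1.2
    have himg : (fun y : q.fiber (q zt) => e (q.fiberι (q zt) y)) '' (U.1 : Set _) =
        (O ∩ (A : Set G.left)) ∩ neutralSet G ∩ G.hom ⁻¹' {t} := by
      rw [show (U.1 : Set (q.fiber (q zt))) = _ ⁻¹' O from hOU.symm, Set.image_preimage_eq_inter_range, hran, hqt, hPt, ← Set.inter_assoc, ← Set.inter_assoc]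
    have hne : ((O ∩ (A : Set G.left)) ∩ neutralSet G ∩ G.hom ⁻¹' {t}).Nonempty := by
      rw [← himg]
      exact ⟨_, q.asFiber zt, U.2, rfl⟩
    rw [IsHomeomorph.topologicalKrullDim_eq _ (hemb.homeomorphImage (U.1 : Set _)).isHomeomorph, himg,
      dim_fibre_open t (O := O ∩ (A : Set G.left)) (hO.inter A.2) hne]
  have hds : topologicalKrullDim ↥(G.hom ⁻¹' {t}) ≤ FlatMor.fibreDimAt q zs := by
    by_contra hlt
    have hlt' := not_le.1 hlt
    obtain ⟨n, hn⟩ : ∃ n : ℕ, FlatMor.fibreDimAt q zs ≤ n ∧ (n : WithBot ℕ∞) < topologicalKrullDim ↥(G.hom ⁻¹' {t}) := by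
      cases hv : FlatMor.fibreDimAt q zs with
      | bot =>
        refine ⟨0, bot_le, ?_⟩
        rcases lt_or_ge (((0 : ℕ) : WithBot ℕ∞)) (topologicalKrullDim ↥(G.hom ⁻¹' {t})) with h0 | h0
        · exact h0
        · exfalso
          have hU : FlatMor.fibreDimAt q zs ≠ ⊥ := by
            refine ne_bot_of_le_ne_bot (b := ((0 : ℕ) : WithBot ℕ∞)) (by simp) (le_iInf fun U => ?_)
            haveI : Nonempty ↥(U.1 : Set (q.fiber (q zs))) := ⟨⟨_, U.2⟩⟩
            haveI : Nonempty (TopologicalSpace.IrreducibleCloseds ↥(U.1 : Set (q.fiber (q zs)))) :=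
              ⟨⟨closure {⟨_, U.2⟩}, isIrreducible_singleton.closure, isClosed_closure⟩⟩
            exact Order.krullDim_nonneg
          exact hU hv
      | coe m =>
        rw [hv] at hlt'
        cases m with
        | top => exact absurd hlt' (not_lt.2 le_top)
        | coe k => exact ⟨k, le_rfl, hlt'⟩
    have hopen := S0402.result q n
    have : FlatMor.fibreDimAt q zt ≤ n := hzsp.mem_open hopen hn.1
    exact absurd (hdt.trans this) (not_le.2 hn.2)
  -- hence the special component lies in the closure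
  have hPs : P s ⊆ closure (P t) := by
    by_contra hsub
    let Y : Set ↥(P s) := Subtype.val ⁻¹' closure (P t)
    have hne : ((A : Set G.left) ∩ neutralSet G ∩ G.hom ⁻¹' {s}).Nonempty := ⟨_, hePs⟩
    haveI : IrreducibleSpace ↥(P s) := isIrreducible_iff_irreducibleSpace.1 (isIrreducible_fibre_open s A.2 hne)
    have hdimP : topologicalKrullDim ↥(P s) = topologicalKrullDim ↥(G.hom ⁻¹' {s}) := dim_fibre_open s A.2 hne
    have hlt := S10830.result ↥(P s) (hdimP ▸ dim_ne_top s) Y (isClosed_closure.preimage continuous_subtype_val)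
      (fun hY => hsub fun x hx => (hY.ge (Set.mem_univ (⟨x, hx⟩ : ↥(P s))) :))
    obtain ⟨hemb, hran⟩ := hfib zs (q zs) rfl
    let U : TopologicalSpace.Opens (q.fiber (q zs)) :=
      ⟨_, hOs.preimage hemb.continuous⟩
    have hzU : q.asFiber zs ∈ U := by
      show e (q.fiberι (q zs) (q.asFiber zs)) ∈ Os
      rw [q.fiberι_asFiber, hzs]
      exact (hOseq.ge ⟨unit_mem s, hom_unit G s⟩).1
    have hle : FlatMor.fibreDimAt q zs ≤ topologicalKrullDim ↥(U : Set (q.fiber (q zs))) :=
      iInf_le (fun U : {U : TopologicalSpace.Opens (q.fiber (q zs)) // q.asFiber zs ∈ U} =>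
        topologicalKrullDim (U.1 : Set (q.fiber (q zs)))) ⟨U, hzU⟩
    have himg : (fun y : q.fiber (q zs) => e (q.fiberι (q zs) y)) '' (U : Set _) = Subtype.val '' Y := by
      rw [Subtype.image_preimage_coe]
      show (fun y : q.fiber (q zs) => e (q.fiberι (q zs) y)) ''
        ((fun y : q.fiber (q zs) => e (q.fiberι (q zs) y)) ⁻¹' Os) = _
      rw [Set.image_preimage_eq_inter_range, hran, hqs]
      ext x
      constructor
      · rintro ⟨hxO, ⟨hxA, hxc⟩, hxs⟩
        exact ⟨⟨⟨hxA, (hOseq.le ⟨hxO, hxs⟩).1⟩, hxs⟩, hxc⟩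
      · rintro ⟨⟨⟨hxA, hxN⟩, hxs⟩, hxc⟩
        exact ⟨(hOseq.ge ⟨hxN, hxs⟩).1, ⟨hxA, hxc⟩, hxs⟩
    have hUY : topologicalKrullDim ↥(U : Set (q.fiber (q zs))) = topologicalKrullDim ↥Y := by
      rw [IsHomeomorph.topologicalKrullDim_eq _ (hemb.homeomorphImage (U : Set _)).isHomeomorph, himg,
        ← IsHomeomorph.topologicalKrullDim_eq _ (Topology.IsEmbedding.subtypeVal.homeomorphImage Y).isHomeomorph]
    rw [hdimP, ← hUY, ← hd] at hlt
    exact absurd (hds.trans hle) (not_le.2 hlt)
  have hcl : closure (P s) ⊆ closure (neutralSet G ∩ G.hom ⁻¹' {t}) :=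
    (closure_minimal hPs isClosed_closure).trans (closure_mono fun x hx => ⟨hx.1.2, hx.2⟩)
  refine Set.Subset.trans ?_ hcl
  have hirr : IsIrreducible (neutralSet G ∩ G.hom ⁻¹' {s}) := by
    have := isIrreducible_fibre_open (G := G) s isOpen_univ ⟨η[G].left s, ⟨trivial, unit_mem s⟩, hom_unit G s⟩
    rwa [Set.univ_inter] at this
  intro x hx
  rw [mem_closure_iff]
  intro W hW hxW
  obtain ⟨y, hy, hyW, hyA⟩ := hirr.2 W (A : Set G.left) hW A.2 ⟨x, hx, hxW⟩
    ⟨η[G].left s, ⟨unit_mem s, hom_unit G s⟩, heA s hsV⟩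
  exact ⟨y, hyW, ⟨hyA, hy.1⟩, hy.2⟩

theorem dim_bc_field [LocallyOfFinitePresentation G.hom] {K : Type u} [Field K] (ψ : Spec (CommRingCat.of K) ⟶ S) :
    topologicalKrullDim (Red.bc ψ G).left = topologicalKrullDim ↥(G.hom ⁻¹' {ψ (IsLocalRing.closedPoint K)}) := by
  let p := IsLocalRing.closedPoint K
  obtain ⟨V, A, hV, hA, hpV, -, hAV, heA⟩ := exists_chart G ⊤ (fun _ => trivial) (ψ p)
  haveI : IsAffine (V : Scheme) := hV
  haveI : IsAffine (A : Scheme) := hA
  have hψ : Set.range ψ ⊆ Set.range V.ι := by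
    rw [Scheme.Opens.range_ι]
    rintro _ ⟨x, rfl⟩
    rwa [Subsingleton.elim (α := PrimeSpectrum K) x p]
  let ψV := IsOpenImmersion.lift V.ι ψ hψ
  have hψV : ψV ≫ V.ι = ψ := IsOpenImmersion.lift_fac _ _ _
  have hV' : V.ι (ψV p) = ψ p := (congrArg (fun m => m p) hψV :)
  let f := chartMap hAV
  haveI : QuasiCompact f := quasiCompact_of_compactSpace f
  haveI : LocallyOfFiniteType f := inferInstance
  have h := S9777.result f ψV (pullback.snd f ψV) (pullback.fst f ψV) (IsPullback.of_hasPullback f ψV) p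
  haveI : LocallyOfFiniteType (Red.bc ψ G).hom := MorphismProperty.pullback_snd (P := @LocallyOfFiniteType) _ _ ‹_›
  let j : pullback f ψV ⟶ (Red.bc ψ G).left :=
    pullback.map f ψV G.hom ψ A.ι (𝟙 _) V.ι (Scheme.Hom.resLE_comp_ι G.hom hAV) (by rw [hψV, Category.id_comp])
  have hne : (Set.range j).Nonempty := by
    refine ⟨GrpSchLib.unitPt (G := Red.bc ψ G), (Scheme.Pullback.range_map _ _ _ _ _ _ _ _ _).ge ⟨?_, ⟨_, rfl⟩⟩⟩
    show pullback.fst G.hom ψ (η[Red.bc ψ G].left p) ∈ Set.range A.ι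
    rw [Scheme.Opens.range_ι]
    have hu : η[Red.bc ψ G].left ≫ pullback.fst G.hom ψ = ψ ≫ η[G].left := by
      simp [Red.bc, Functor.obj.η_def]
    rw [show pullback.fst G.hom ψ (η[Red.bc ψ G].left p) = η[G].left (ψ p) from congrArg (fun m => m p) hu]
    exact heA _ hpV
  have h1 := topologicalKrullDim_open (G := Red.bc ψ G) j.opensRange (by
    rw [Scheme.Hom.coe_opensRange]; exact hne)
  rw [← h1]
  have h2 : topologicalKrullDim ↥(j.opensRange : Set (Red.bc ψ G).left) = topologicalKrullDim ↥(pullback f ψV) :=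
    (IsHomeomorph.topologicalKrullDim_eq _ j.isOpenEmbedding.isEmbedding.toHomeomorph.isHomeomorph).symm
  have h3 : topologicalKrullDim ↥(pullback f ψV) = topologicalKrullDim ↥((pullback.snd f ψV).fiber p) := by
    rw [IsHomeomorph.topologicalKrullDim_eq _ ((pullback.snd f ψV).fiberHomeo p).isHomeomorph,
      show (pullback.snd f ψV) ⁻¹' {p} = Set.univ from
        Set.eq_univ_of_forall fun x => Subsingleton.elim (α := PrimeSpectrum K) _ _]
    exact (IsHomeomorph.topologicalKrullDim_eq _ (Homeomorph.Set.univ _).isHomeomorph).symm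
  rw [h2, h3, h, dim_chart_fibre hAV heA, hV']

end Groth.Agent.Neutral

end
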