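import Groth.Agent.Neutral.Basic
import Groth.Agent.PureClosedLib.Scheme
import Groth.Agent.WeilClosedLib.Transporter

/-!
The neutral component of a group scheme over a field, as a flat closed subgroup scheme.
-/

set_option autoImplicit false
set_option backward.isDefEq.respectTransparency false
set_option backward.isDefEq.respectTransparency.types false
set_option linter.style.haveILetI false

universe u

open CategoryTheory CategoryTheory.Limits MonoidalCategory CartesianMonoidalCategory MonObj GrpObj AlgebraicGeometry
open SGA3x

noncomputable section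

namespace Groth.Agent.Neutral

variable {K : Type u} [Field K] (G : Over (Spec (CommRingCat.of K))) [GrpObj G]

theorem exists_neutralSubgroup :
    ∃ (G₀ : Over (Spec (CommRingCat.of K))) (_ : GrpObj G₀) (incl : G₀ ⟶ G) (_ : IsMonHom incl),
      IsClosedImmersion incl.left ∧ Flat incl.left ∧
      Set.range ⇑incl.left = connectedComponent (η[G].left (IsLocalRing.closedPoint K)) ∧
      GeometricallyIrreducible G₀.hom ∧ CompactSpace ↥G₀.left := by
  let C : TopologicalSpace.Closeds G.left :=
    ⟨connectedComponent (GrpSchLib.unitPt G), isClosed_connectedComponent⟩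
  have hgen : StableUnderGeneralization (C : Set G.left) := fun x y hyx hx => by
    show y ∈ connectedComponent _
    rw [connectedComponent_eq hx]
    have : x ∈ closure ({y} : Set G.left) := hyx.mem_closure
    have h2 := (isPreconnected_singleton (x := y)).closure.subset_connectedComponent this (subset_closure rfl)
    exact h2
  let I := PureClosedLib.pureSheaf C hgen
  have hflat : Flat I.subschemeι := (PureClosedLib.flat_subschemeι_iff I).2 (PureClosedLib.flat_quotient_pureSheaf C hgen)
  have hsupp : (I.support : Set G.left) = neutralSet G := by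
    rw [PureClosedLib.support_pureSheaf, neutralSet_field]; rfl
  let G₀ : Over (Spec (CommRingCat.of K)) := Over.mk (I.subschemeι ≫ G.hom)
  let i : G₀ ⟶ G := Over.homMk I.subschemeι rfl
  haveI : IsClosedImmersion i.left := inferInstanceAs (IsClosedImmersion I.subschemeι)
  haveI : Mono i := (Over.forget _).mono_of_mono_map (inferInstanceAs (Mono I.subschemeι))
  have hr : Set.range i.left = neutralSet G := I.range_subschemeι.trans hsupp
  have hfac : ∀ (T : Over (Spec (CommRingCat.of K))) (g : T ⟶ G), Set.range g.left ⊆ neutralSet G →
      ∃ z : T ⟶ G₀, z ≫ i = g := fun T g hg => by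
    obtain ⟨z, hz⟩ := PureClosedLib.exists_factor hflat g.left (hsupp ▸ hg)
    refine ⟨Over.homMk z ?_, Over.OverMorphism.ext hz⟩
    show z ≫ I.subschemeι ≫ G.hom = T.hom
    rw [← Category.assoc, hz]
    exact Over.w g
  have hrange : ∀ (T : Over (Spec (CommRingCat.of K))) (a : T ⟶ G₀), Set.range (a ≫ i).left ⊆ neutralSet G := by
    rintro T a _ ⟨t, rfl⟩
    exact hr.le ⟨a.left t, rfl⟩
  obtain ⟨str, hmon⟩ := WeilClosedLib.exists_grpObj_of_closed i (hfac _ η[G] range_unit_subset)
    (fun T a b => hfac _ _ (range_mul_subset _ _ (hrange T a) (hrange T b)))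
    (fun T a => hfac _ _ (range_inv_subset _ (hrange T a)))
  have hrC : Set.range i.left = GrpSchLib.idComp G := by
    rw [hr, neutralSet_field, GrpSchLib.connectedComponent_eq]
  haveI := GrpSchLib.compactSpace_idObj (G := G)
  refine ⟨G₀, str, i, hmon, inferInstance, hflat, hr.trans neutralSet_field, ?_, ?_⟩
  · haveI : IrreducibleSpace G₀.left := i.left.isEmbedding.toHomeomorph.irreducibleSpace_iff.mpr
      (isIrreducible_iff_irreducibleSpace.mp (hrC ▸ isIrreducible_irreducibleComponent))
    exact GeomIrred.geometricallyIrreducible_component I.subschemeι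
      (by
        show Set.range i.left ∈ _
        rw [hrC]
        exact irreducibleComponent_mem_irreducibleComponents _)
      (by
        show _ ∈ Set.range i.left
        rw [hrC]
        exact mem_irreducibleComponent)
  · refine ⟨i.left.isEmbedding.isCompact_iff.mpr ?_⟩
    rw [Set.image_univ, hrC, ← GrpSchLib.range_idIncl]
    exact isCompact_range (GrpSchLib.idIncl G).left.continuous

end Groth.Agent.Neutral

end
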