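import Groth.Agent.Neutral.Closure
import Groth.Agent.GrpQuotLib.Orbit
import Groth.Agent.S3403
import Groth.Prelude.Def_ActBC

/-!
For locally constant fibre dimensions: the saturation of a separated open by the neutral components is a separated open.
-/

set_option autoImplicit false
set_option backward.isDefEq.respectTransparency false
set_option backward.isDefEq.respectTransparency.types false
set_option linter.style.haveILetI false
set_option linter.unusedSectionVars false

universe u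

open CategoryTheory CategoryTheory.Limits MonoidalCategory CartesianMonoidalCategory MonObj GrpObj AlgebraicGeometry
open SGA3x

noncomputable section

namespace Groth.Agent.Neutral

variable {S : Scheme.{u}} {G X : Over S} [GrpObj G] [LocallyOfFinitePresentation G.hom]

theorem dim_fibre_bc (p : Over S) (x : p.left) :
    topologicalKrullDim ↥((Red.bc p.hom G).hom ⁻¹' {x}) = topologicalKrullDim ↥(G.hom ⁻¹' {p.hom x}) := by
  let ψ := p.left.fromSpecResidueField x ≫ p.hom
  have hemb := OpenSubgrp.isEmbedding_ιs (Red.bc p.hom G) x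
  let e := ActBC.bcCompIso (p.left.fromSpecResidueField x) p.hom G (d := ψ) rfl
  haveI : IsIso e.hom.left := inferInstanceAs (IsIso ((Over.forget _).map e.hom))
  rw [show (Red.bc p.hom G).hom ⁻¹' {x} = Set.range (OpenSubgrp.ιs (Red.bc p.hom G) x) from
      (OpenSubgrp.range_ιs (Red.bc p.hom G) x).symm,
    ← IsHomeomorph.topologicalKrullDim_eq _ hemb.toHomeomorph.isHomeomorph,
    IsHomeomorph.topologicalKrullDim_eq _ e.hom.left.homeomorph.isHomeomorph]
  refine (dim_bc_field (K := p.left.residueField x) ψ).trans ?_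
  show topologicalKrullDim ↥(G.hom ⁻¹' {p.hom (p.left.fromSpecResidueField x _)}) = _
  rw [Scheme.fromSpecResidueField_apply]

variable (a : AlgGrp.Action G X)

/-- The shearing of an action. -/
def actShear : G ⊗ X ≅ G ⊗ X where
  hom := lift (fst G X) (lift (fst G X) (snd G X) ≫ a.act)
  inv := lift (fst G X) (lift (fst G X)⁻¹ (snd G X) ≫ a.act)
  hom_inv_id := by
    refine CartesianMonoidalCategory.hom_ext _ _ (by simp) ?_
    rw [Category.assoc, lift_snd, ← Category.assoc, comp_lift, GrpObj.comp_inv, lift_fst, lift_snd,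
      ← GrpQuotLib.mul_smul, inv_mul_cancel, GrpQuotLib.one_smul, Category.id_comp]
  inv_hom_id := by
    refine CartesianMonoidalCategory.hom_ext _ _ (by simp) ?_
    rw [Category.assoc, lift_snd, ← Category.assoc, comp_lift, lift_fst, lift_snd,
      ← GrpQuotLib.mul_smul, mul_inv_cancel, GrpQuotLib.one_smul, Category.id_comp]

theorem act_eq : a.act = (actShear a).hom ≫ snd G X := by
  rw [actShear, lift_snd]
  simp

theorem isUnivOpenAt_snd (hdim : IsLocallyConstant (fun s : S => topologicalKrullDim ↥(G.hom.base ⁻¹' {s})))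
    (T : Over S) (w : (G ⊗ T).left) (hw : (fst G T).left w ∈ neutralSet G) :
    EGA43.IsUnivOpenAt (snd G T).left w :=
  isUnivOpenAt_of_isPullback (GrpSchLib.isPullback_fst_snd (T := G) (G := T)) w
    (isUnivOpenAt_neutral _ hw ⟨_, (hdim.isOpen_fiber _).mem_nhds rfl, fun _ h => h⟩)

variable (U : X.left.Opens)

/-- The saturation. -/
def satSet : Set X.left :=
  a.act.left '' {z | (fst G X).left z ∈ neutralSet G ∧ (snd G X).left z ∈ U}

theorem isOpen_satSet (hdim : IsLocallyConstant (fun s : S => topologicalKrullDim ↥(G.hom.base ⁻¹' {s}))) :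
    IsOpen (satSet a U) := by
  haveI : IsIso (actShear a).hom.left := inferInstanceAs (IsIso ((Over.forget _).map (actShear a).hom))
  haveI : LocallyOfFinitePresentation (snd G X).left :=
    MorphismProperty.of_isPullback (P := @LocallyOfFinitePresentation) GrpSchLib.isPullback_fst_snd ‹_›
  haveI : LocallyOfFinitePresentation a.act.left := by
    rw [act_eq, Over.comp_left]; infer_instance
  have hind : ProCons.IsIndConstructible (satSet a U) := by
    refine ProConsLib.isIndConstructible_image a.act.left ?_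
    rw [show {z : (G ⊗ X).left | (fst G X).left z ∈ neutralSet G ∧ (snd G X).left z ∈ U} =
      (fst G X).left ⁻¹' neutralSet G ∩ (snd G X).left ⁻¹' (U : Set X.left) from rfl, ProConsLib.isIndConstructible_iff]
    intro W hW
    rw [Set.preimage_inter]
    exact @IsOpen.inter (W : Set (G ⊗ X).left) (constructibleTopology _) _ _
      ((ProConsLib.isIndConstructible_iff _).1
        (ProConsLib.isIndConstructible_preimage (fst G X).left (isIndConstructible_neutralSet G)) W hW)
      (by haveI := ProConsLib.spectralSpace_of_isAffineOpen hW; exact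
        SpectralLib.isOpen_C_of_isOpen ((U.2.preimage (snd G X).left.continuous).preimage continuous_subtype_val))
  rw [isOpen_iff_mem_nhds]
  intro x hx
  rw [← mem_interior_iff_mem_nhds, S3403.result X.left _ hind]
  intro y hyx
  obtain ⟨z, ⟨hzN, hzU⟩, rfl⟩ := hx
  let q : G ⊗ X ⟶ X := lift (fst G X)⁻¹ (snd G X) ≫ a.act
  let σ := (actShear a).hom
  let σi := (actShear a).inv
  have hσ1 : (snd G X).left (σ.left z) = a.act.left z := by
    show (σ ≫ snd G X).left z = _
    rw [← act_eq]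
  have hσ2 : (fst G X).left (σ.left z) ∈ neutralSet G := by
    show (σ ≫ fst G X).left z ∈ _
    rw [show σ ≫ fst G X = fst G X from lift_fst _ _]; exact hzN
  have hσ3 : q.left (σ.left z) ∈ U := by
    show (σ ≫ q).left z ∈ U
    rw [show σ ≫ q = snd G X by
      have h := (actShear a).hom_inv_id =≫ snd G X
      rw [Category.assoc, Category.id_comp] at h
      rw [show q = σi ≫ snd G X from (lift_snd _ _).symm]
      exact h]
    exact hzU
  haveI : LocallyOfFinitePresentation (Red.bc X.hom G).hom :=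
    MorphismProperty.pullback_snd (P := @LocallyOfFinitePresentation) _ _ ‹_›
  have hspec : X.hom y ⤳ X.hom (a.act.left z) := hyx.map X.hom.continuous
  have hd : topologicalKrullDim ↥((Red.bc X.hom G).hom ⁻¹' {y}) =
      topologicalKrullDim ↥((Red.bc X.hom G).hom ⁻¹' {a.act.left z}) := by
    rw [dim_fibre_bc, dim_fibre_bc]
    exact hspec.mem_open (hdim.isOpen_fiber _) rfl
  have hmem : (σ.left z : (Red.bc X.hom G).left) ∈ neutralSet (Red.bc X.hom G) ∩ (Red.bc X.hom G).hom ⁻¹' {a.act.left z} := by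
    refine ⟨?_, hσ1⟩
    rw [neutralSet_bc]
    exact hσ2
  have hcl := subset_closure_of_specializes (G := Red.bc X.hom G) hyx hd hmem
  obtain ⟨z₂, hz₂W, hz₂N, hz₂y⟩ := mem_closure_iff.1 hcl (q.left ⁻¹' U) (U.2.preimage q.left.continuous) hσ3
  rw [neutralSet_bc] at hz₂N
  refine ⟨σi.left z₂, ⟨?_, ?_⟩, ?_⟩
  · show (σi ≫ fst G X).left z₂ ∈ _
    rw [show σi ≫ fst G X = fst G X from lift_fst _ _]; exact hz₂N
  · show (σi ≫ snd G X).left z₂ ∈ U
    rw [show σi ≫ snd G X = q from lift_snd _ _]; exact hz₂W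
  · show (σi ≫ a.act).left z₂ = y
    rw [show σi ≫ a.act = snd G X by rw [act_eq a, ← Category.assoc]; simp [σi]]
    exact hz₂y

theorem exists_lift_equalizer {T Y : Over S} [IsSeparated Y.hom] (p q : T ⟶ Y) :
    ∃ (E : Over S) (e : E ⟶ T), IsClosed (Set.range e.left) ∧ e ≫ p = e ≫ q ∧
      ∀ (W : Over S) (w : W ⟶ T), w ≫ p = w ≫ q → ∃ z, z ≫ e = w := by
  haveI : IsClosedImmersion (lift (𝟙 Y) (𝟙 Y) : Y ⟶ Y ⊗ Y).left := by
    have h : (lift (𝟙 Y) (𝟙 Y) : Y ⟶ Y ⊗ Y).left = pullback.diagonal Y.hom := by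
      apply pullback.hom_ext
      · exact (congrArg CommaMorphism.left (lift_fst (𝟙 Y) (𝟙 Y))).trans (pullback.diagonal_fst Y.hom).symm
      · exact (congrArg CommaMorphism.left (lift_snd (𝟙 Y) (𝟙 Y))).trans (pullback.diagonal_snd Y.hom).symm
    rw [h]; infer_instance
  haveI : IsClosedImmersion (pullback.fst (lift p q) (lift (𝟙 Y) (𝟙 Y))).left :=
    MorphismProperty.of_isPullback (P := @IsClosedImmersion)
      ((IsPullback.of_hasPullback (lift p q) (lift (𝟙 Y) (𝟙 Y))).map (Over.forget S)).flip ‹_›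
  refine ⟨_, pullback.fst _ _, (pullback.fst (lift p q) (lift (𝟙 Y) (𝟙 Y))).left.isClosedEmbedding.isClosed_range,
    ?_, fun W w hw => ⟨pullback.lift w (w ≫ p) (by
      apply CartesianMonoidalCategory.hom_ext <;> simp [hw]), pullback.lift_fst _ _ _⟩⟩
  have h := (pullback.condition : pullback.fst (lift p q) (lift (𝟙 Y) (𝟙 Y)) ≫ _ = _ ≫ _)
  have h1 := congrArg (· ≫ fst Y Y) h
  have h2 := congrArg (· ≫ snd Y Y) h
  simp only [Category.assoc, lift_fst, lift_snd, Category.comp_id] at h1 h2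
  exact h1.trans h2.symm

theorem isSeparated_satSet (hdim : IsLocallyConstant (fun s : S => topologicalKrullDim ↥(G.hom.base ⁻¹' {s})))
    [IsSeparated (U.ι ≫ X.hom)] (V : X.left.Opens) (hV : (V : Set X.left) ⊆ satSet a U) :
    IsSeparated (V.ι ≫ X.hom) := by
  let Vo : Over S := Over.mk (V.ι ≫ X.hom)
  let v : Vo ⟶ X := Over.homMk V.ι rfl
  let Uo : Over S := Over.mk (U.ι ≫ X.hom)
  let uo : Uo ⟶ X := Over.homMk U.ι rfl
  haveI : IsSeparated Uo.hom := ‹IsSeparated (U.ι ≫ X.hom)›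
  haveI : Mono v := (Over.forget S).mono_of_mono_map (inferInstanceAs (Mono V.ι))
  haveI : Mono uo := (Over.forget S).mono_of_mono_map (inferInstanceAs (Mono U.ι))
  suffices h : IsClosed (Set.range (lift (𝟙 Vo) (𝟙 Vo) : Vo ⟶ Vo ⊗ Vo).left) by
    have he : (lift (𝟙 Vo) (𝟙 Vo) : Vo ⟶ Vo ⊗ Vo).left = pullback.diagonal (V.ι ≫ X.hom) := by
      apply pullback.hom_ext
      · exact (congrArg CommaMorphism.left (lift_fst (𝟙 Vo) (𝟙 Vo))).trans (pullback.diagonal_fst Vo.hom).symm
      · exact (congrArg CommaMorphism.left (lift_snd (𝟙 Vo) (𝟙 Vo))).trans (pullback.diagonal_snd Vo.hom).symm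
    exact ⟨IsClosedImmersion.of_isPreimmersion _ (he ▸ h)⟩
  rw [← isOpen_compl_iff, isOpen_iff_mem_nhds]
  intro t ht
  let T := Vo ⊗ Vo
  let P : T ⟶ X := fst Vo Vo ≫ v
  let Q : T ⟶ X := snd Vo Vo ≫ v
  let qp : ∀ (p : T ⟶ X), G ⊗ T ⟶ X := fun p => lift (fst G T)⁻¹ (snd G T ≫ p) ≫ a.act
  haveI : LocallyOfFinitePresentation (Red.bc T.hom G).hom :=
    MorphismProperty.pullback_snd (P := @LocallyOfFinitePresentation) _ _ ‹_›
  have hne : ∀ p : T ⟶ X, p.left t ∈ V →
      ∃ w : (Red.bc T.hom G).left, w ∈ neutralSet (Red.bc T.hom G) ∩ (Red.bc T.hom G).hom ⁻¹' {t} ∧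
        w ∈ (qp p).left ⁻¹' (U : Set X.left) := by
    intro p hp
    obtain ⟨z, ⟨hzN, hzU⟩, hz⟩ := hV hp
    let σ := (actShear a).hom
    have hσ1 : (snd G X).left (σ.left z) = p.left t := by
      show (σ ≫ snd G X).left z = _
      rw [← act_eq]; exact hz
    have hP : IsPullback (G ◁ p).left (snd G T).left (snd G X).left p.left := by
      refine IsPullback.of_right ?_ (congrArg CommaMorphism.left (whiskerLeft_snd G p))
        (GrpSchLib.isPullback_fst_snd (T := G) (G := X))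
      have h : (G ◁ p).left ≫ (fst G X).left = (fst G T).left := congrArg CommaMorphism.left (whiskerLeft_fst G p)
      rw [h, Over.w p]
      exact GrpSchLib.isPullback_fst_snd (T := G) (G := T)
    obtain ⟨o, ho₁, ho₂⟩ := Scheme.Pullback.exists_preimage_pullback (f := (snd G X).left) (g := p.left) (σ.left z) t hσ1
    obtain ⟨w, hw₁, hw₂⟩ : ∃ w, (G ◁ p).left w = σ.left z ∧ (snd G T).left w = t :=
      ⟨hP.isoPullback.inv o, by rw [← Scheme.Hom.comp_apply, hP.isoPullback_inv_fst]; exact ho₁,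
        by rw [← Scheme.Hom.comp_apply, hP.isoPullback_inv_snd]; exact ho₂⟩
    refine ⟨w, ⟨?_, hw₂⟩, ?_⟩
    · rw [neutralSet_bc]
      show (fst G T).left w ∈ neutralSet G
      have h : (G ◁ p) ≫ fst G X = fst G T := whiskerLeft_fst G p
      rw [← h, Over.comp_left, Scheme.Hom.comp_apply, hw₁]
      show (σ ≫ fst G X).left z ∈ _
      rw [show σ ≫ fst G X = fst G X from lift_fst _ _]; exact hzN
    · have h : qp p = (G ◁ p) ≫ lift (fst G X)⁻¹ (snd G X) ≫ a.act := by
        rw [← Category.assoc, comp_lift, GrpObj.comp_inv, whiskerLeft_fst, whiskerLeft_snd]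
      show (qp p).left w ∈ U
      rw [h, Over.comp_left, Scheme.Hom.comp_apply, hw₁]
      show (σ ≫ lift (fst G X)⁻¹ (snd G X) ≫ a.act).left z ∈ U
      rw [show σ ≫ lift (fst G X)⁻¹ (snd G X) ≫ a.act = snd G X by
        rw [← lift_snd (fst G X) (lift (fst G X)⁻¹ (snd G X) ≫ a.act)]
        exact (actShear a).hom_inv_id_assoc _]
      exact hzU
  have hirr : IsIrreducible (neutralSet (Red.bc T.hom G) ∩ (Red.bc T.hom G).hom ⁻¹' {t}) := by
    have := isIrreducible_fibre_open (G := Red.bc T.hom G) t isOpen_univ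
      ⟨η[Red.bc T.hom G].left t, ⟨trivial, unit_mem t⟩, hom_unit _ t⟩
    rwa [Set.univ_inter] at this
  obtain ⟨w₁, hw₁, hw₁'⟩ := hne P ((fst Vo Vo).left t).2
  obtain ⟨w₂, hw₂, hw₂'⟩ := hne Q ((snd Vo Vo).left t).2
  obtain ⟨c, ⟨hcN, hct⟩, hcP, hcQ⟩ := hirr.2 _ _ (U.2.preimage (qp P).left.continuous)
    (U.2.preimage (qp Q).left.continuous) ⟨w₁, hw₁, hw₁'⟩ ⟨w₂, hw₂, hw₂'⟩
  rw [neutralSet_bc] at hcN
  let N : (G ⊗ T).left.Opens := (qp P).left ⁻¹ᵁ U ⊓ (qp Q).left ⁻¹ᵁ U
  let To : Over S := Over.mk (N.ι ≫ (G ⊗ T).hom)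
  let j : To ⟶ G ⊗ T := Over.homMk N.ι rfl
  have hlift : ∀ p, N ≤ (qp p).left ⁻¹ᵁ U → ∃ z : To ⟶ Uo, z ≫ uo = j ≫ qp p := fun p hle => by
    have hr : Set.range (j ≫ qp p).left ⊆ Set.range U.ι := by
      rw [Scheme.Opens.range_ι]
      rintro _ ⟨n, rfl⟩
      exact hle n.2
    refine ⟨Over.homMk (IsOpenImmersion.lift U.ι (j ≫ qp p).left hr) ?_,
      Over.OverMorphism.ext (IsOpenImmersion.lift_fac _ _ _)⟩
    show _ ≫ U.ι ≫ X.hom = To.hom
    rw [← Category.assoc]
    exact (congrArg (· ≫ X.hom) (IsOpenImmersion.lift_fac U.ι _ _)).trans (Over.w _)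
  obtain ⟨zP, hzP⟩ := hlift P inf_le_left
  obtain ⟨zQ, hzQ⟩ := hlift Q inf_le_right
  obtain ⟨E, e, hEcl, hEeq, hEuniv⟩ := exists_lift_equalizer zP zQ
  have hiff : ∀ (W : Over S) (w : W ⟶ To), w ≫ zP = w ≫ zQ ↔
      (w ≫ j ≫ snd G T) ≫ fst Vo Vo = (w ≫ j ≫ snd G T) ≫ snd Vo Vo := fun W w => by
    have hq : ∀ p : T ⟶ X, w ≫ j ≫ qp p = lift (w ≫ j ≫ fst G T)⁻¹ ((w ≫ j ≫ snd G T) ≫ p) ≫ a.act := fun p => by
      simp only [qp, ← Category.assoc, comp_lift, GrpObj.comp_inv]
    constructor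
    · intro h
      have h' : w ≫ j ≫ qp P = w ≫ j ≫ qp Q := by
        rw [← hzP, ← hzQ, ← Category.assoc, h, Category.assoc]
      rw [hq, hq] at h'
      have h'' := congrArg (fun y => lift (w ≫ j ≫ fst G T) y ≫ a.act) h'
      simp only [← GrpQuotLib.mul_smul, mul_inv_cancel, GrpQuotLib.one_smul] at h''
      rw [← cancel_mono v]
      simpa [P, Q] using h''
    · intro h
      rw [← cancel_mono uo, Category.assoc, Category.assoc, hzP, hzQ, hq, hq]
      simp only [P, Q, ← Category.assoc] at h ⊢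
      rw [h]
  have hc : c ∈ N := ⟨hcP, hcQ⟩
  have hnotE : (⟨c, hc⟩ : To.left) ∉ Set.range e.left := by
    rintro ⟨e₀, he₀⟩
    let W : Over S := Over.mk (E.left.fromSpecResidueField e₀ ≫ E.hom)
    let w : W ⟶ E := Over.homMk (E.left.fromSpecResidueField e₀) rfl
    have hw := (hiff W (w ≫ e)).1 (by rw [Category.assoc, hEeq, Category.assoc])
    let r : W ⟶ T := (w ≫ e) ≫ j ≫ snd G T
    have hr : r = (r ≫ fst Vo Vo) ≫ lift (𝟙 Vo) (𝟙 Vo) := by
      rw [comp_lift, Category.comp_id]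
      apply CartesianMonoidalCategory.hom_ext
      · rw [lift_fst]
      · rw [lift_snd]; exact hw.symm
    refine ht ⟨(r ≫ fst Vo Vo).left (IsLocalRing.closedPoint (E.left.residueField e₀)), ?_⟩
    show ((r ≫ fst Vo Vo) ≫ lift (𝟙 Vo) (𝟙 Vo)).left _ = t
    rw [← hr]
    show (snd G T).left (j.left (e.left (E.left.fromSpecResidueField e₀ _))) = t
    rw [Scheme.fromSpecResidueField_apply, he₀]
    exact hct
  have hopen : EGA43.IsOpenAt (snd G T).left.base c := by
    have h := isUnivOpenAt_snd hdim T c hcN T.left (𝟙 _)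
    intro O hO
    let π := pullback.fst (snd G T).left (𝟙 T.left)
    obtain ⟨x', hx'⟩ := π.surjective c
    have h' := h x' hx' (π ⁻¹' O) (π.continuous.continuousAt.preimage_mem_nhds (hx'.symm ▸ hO))
    have hpt : ∀ y, (pullback.snd (snd G T).left (𝟙 T.left)) y = (snd G T).left (π y) := fun y =>
      (congrArg (fun m : pullback (snd G T).left (𝟙 T.left) ⟶ T.left => m y) pullback.condition).symm
    rw [hpt, hx'] at h'
    refine Filter.mem_of_superset h' ?_
    rintro _ ⟨y, hy, rfl⟩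
    exact ⟨_, hy, (hpt y).symm⟩
  have hW : N.ι '' (Set.range e.left)ᶜ ∈ nhds c :=
    (N.ι.isOpenEmbedding.isOpenMap _ hEcl.isOpen_compl).mem_nhds ⟨⟨c, hc⟩, hnotE, rfl⟩
  have := hopen _ hW
  rw [show (snd G T).left.base c = t from hct] at this
  refine Filter.mem_of_superset this ?_
  rintro _ ⟨_, ⟨n, hn, rfl⟩, rfl⟩ ⟨y, hy⟩
  refine hn ?_
  let p₀ : To ⟶ T := j ≫ snd G T
  obtain ⟨o, ho₁, ho₂⟩ := Scheme.Pullback.exists_preimage_pullback (f := p₀.left)
    (g := (lift (𝟙 Vo) (𝟙 Vo) : Vo ⟶ T).left) n y hy.symm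
  let W : Over S := Over.mk (pullback.fst p₀.left (lift (𝟙 Vo) (𝟙 Vo) : Vo ⟶ T).left ≫ To.hom)
  let w₁ : W ⟶ To := Over.homMk (pullback.fst _ _) rfl
  let w₂ : W ⟶ Vo := Over.homMk (pullback.snd _ _) (by
    show pullback.snd p₀.left _ ≫ Vo.hom = pullback.fst p₀.left _ ≫ To.hom
    rw [← Over.w (lift (𝟙 Vo) (𝟙 Vo) : Vo ⟶ T), ← Over.w p₀, ← Category.assoc, ← Category.assoc, pullback.condition])
  have hw : w₁ ≫ p₀ = w₂ ≫ lift (𝟙 Vo) (𝟙 Vo) := Over.OverMorphism.ext pullback.condition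
  obtain ⟨z, hz⟩ := hEuniv W w₁ ((hiff W w₁).2 (by
    show (w₁ ≫ p₀) ≫ _ = (w₁ ≫ p₀) ≫ _
    rw [hw, Category.assoc, Category.assoc, lift_fst, lift_snd]))
  exact ⟨z.left o, (congrArg (fun m : W ⟶ To => m.left o) hz).trans ho₁⟩

end Groth.Agent.Neutral

end
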