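import Groth.Agent.S1324
import Groth.Agent.GrpSchLib.Component
import Groth.Agent.OpenSubgrp.Fibres

/-!
The union of the neutral components of the fibres: base change, products, coverings by products.
-/

set_option autoImplicit false
set_option backward.isDefEq.respectTransparency false
set_option backward.isDefEq.respectTransparency.types false
set_option linter.style.haveILetI false

universe u

open CategoryTheory CategoryTheory.Limits MonoidalCategory CartesianMonoidalCategory MonObj GrpObj AlgebraicGeometry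
open SGA3x

noncomputable section

namespace Groth.Agent.Neutral

section Field

variable {K : Type u} [Field K] {G : Over (Spec (CommRingCat.of K))} [GrpObj G]

theorem mul_mem_connectedComponent (a b : 𝟙_ (Over (Spec (CommRingCat.of K))) ⟶ G)
    (p : ↥(𝟙_ (Over (Spec (CommRingCat.of K)))).left)
    (ha : a.left p ∈ connectedComponent (η[G].left p)) (hb : b.left p ∈ connectedComponent (η[G].left p)) :
    (a * b).left p ∈ connectedComponent (η[G].left p) := by
  let τ : G ⟶ G := (toUnit G ≫ a) * 𝟙 G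
  have hτ : ∀ c : 𝟙_ (Over (Spec (CommRingCat.of K))) ⟶ G, τ.left (c.left p) = (a * c).left p := fun c => by
    have h : c ≫ τ = a * c := by
      rw [MonObj.comp_mul, Category.comp_id, ← Category.assoc, toUnit_unique (c ≫ toUnit G) (𝟙 _), Category.id_comp]
    rw [← h]; rfl
  have hcc := (isConnected_connectedComponent (x := η[G].left p)).image τ.left τ.left.continuous.continuousOn
  have he : τ.left (η[G].left p) = a.left p := by
    rw [hτ, show η[G] = 1 by simp [Hom.one_def], _root_.mul_one]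
  rw [← hτ]
  have := hcc.isPreconnected.subset_connectedComponent ⟨_, mem_connectedComponent, he⟩ ⟨_, hb, rfl⟩
  rwa [connectedComponent_eq ha]

theorem inv_mem_connectedComponent (a : 𝟙_ (Over (Spec (CommRingCat.of K))) ⟶ G)
    (p : ↥(𝟙_ (Over (Spec (CommRingCat.of K)))).left)
    (ha : a.left p ∈ connectedComponent (η[G].left p)) :
    a⁻¹.left p ∈ connectedComponent (η[G].left p) := by
  let τ : G ⟶ G := (𝟙 G)⁻¹
  have hτ : ∀ c : 𝟙_ (Over (Spec (CommRingCat.of K))) ⟶ G, τ.left (c.left p) = c⁻¹.left p := fun c => by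
    have h : c ≫ τ = c⁻¹ := by rw [GrpObj.comp_inv, Category.comp_id]
    rw [← h]; rfl
  rw [← hτ]
  refine ((isConnected_connectedComponent (x := η[G].left p)).image τ.left
    τ.left.continuous.continuousOn).isPreconnected.subset_connectedComponent ⟨_, mem_connectedComponent, ?_⟩
    ⟨_, ha, rfl⟩
  rw [hτ, show η[G] = 1 by simp [Hom.one_def], inv_one]

/-- Every point of the component through the unit is a product of two points of an open nhd of the unit. -/
theorem mem_image_mul (U : Set G.left) (hU : IsOpen U) (he : GrpSchLib.unitPt G ∈ U)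
    (z : G.left) (hz : z ∈ GrpSchLib.idComp G) :
    z ∈ μ[G].left '' ((fst G G).left ⁻¹' U ∩ (snd G G).left ⁻¹' U) := by
  open GrpSchLib in
  let C := ptObj z ⊗ idObj G
  haveI : IrreducibleSpace C.left :=
    inferInstanceAs (IrreducibleSpace ↥(pullback (GrpSchLib.ptObj z).hom (GrpSchLib.idObj G).hom))
  let F₁ : C ⟶ G := snd _ _ ≫ GrpSchLib.idIncl G
  let F₂ : C ⟶ G := (fst _ _ ≫ GrpSchLib.ptHom z) * (snd _ _ ≫ GrpSchLib.idIncl G)⁻¹
  obtain ⟨t⟩ : Nonempty (GrpSchLib.ptObj z).left := inferInstance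
  have hne₁ : (F₁.left ⁻¹' U).Nonempty := by
    obtain ⟨z0, hz0⟩ := GrpSchLib.exists_idObj_point (G := G)
    obtain ⟨q, -, hq⟩ := Scheme.Pullback.exists_preimage_pullback (f := (GrpSchLib.ptObj z).hom)
      (g := (GrpSchLib.idObj G).hom) t z0 (Subsingleton.elim _ _)
    refine ⟨q, ?_⟩
    show (GrpSchLib.idIncl G).left ((snd (GrpSchLib.ptObj z) (GrpSchLib.idObj G)).left q) ∈ U
    rw [show (snd (GrpSchLib.ptObj z) (GrpSchLib.idObj G)).left q = z0 from hq, hz0]
    exact he
  have hne₂ : (F₂.left ⁻¹' U).Nonempty := by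
    obtain ⟨T', a, b, t', -, hab⟩ := GrpSchLib.exists_lift (GrpSchLib.ptHom z) (GrpSchLib.idIncl G) t
      ((GrpSchLib.ptHom_apply z t).symm ▸ (GrpSchLib.range_idIncl (G := G)).ge hz)
    refine ⟨(lift a b).left t', ?_⟩
    have h1 : lift a b ≫ F₂ = 1 := by
      rw [MonObj.comp_mul, GrpObj.comp_inv, ← Category.assoc, lift_fst, ← Category.assoc, lift_snd, hab,
        mul_inv_cancel]
    show (lift a b ≫ F₂).left t' ∈ U
    rw [h1, GrpSchLib.one_apply]
    exact he
  obtain ⟨q, hq₁, hq₂⟩ := nonempty_preirreducible_inter (hU.preimage F₁.left.continuous)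
    (hU.preimage F₂.left.continuous) hne₁ hne₂
  refine ⟨(lift F₂ F₁).left q, ⟨?_, ?_⟩, ?_⟩
  · show (lift F₂ F₁ ≫ fst _ _).left q ∈ U
    rw [lift_fst]; exact hq₂
  · show (lift F₂ F₁ ≫ snd _ _).left q ∈ U
    rw [lift_snd]; exact hq₁
  · have h2 : lift F₂ F₁ ≫ μ[G] = fst _ _ ≫ GrpSchLib.ptHom z := by
      rw [← Hom.mul_def]
      exact inv_mul_cancel_right _ _
    exact (congrArg (fun m : C ⟶ G => m.left q) h2).trans (GrpSchLib.ptHom_apply z _)

end Field

variable {S : Scheme.{u}} {G : Over S} [GrpObj G]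

theorem neutralSet_eq : neutralSet G = MoreMor.sectionComponents G.hom η[G].left := by
  ext x
  constructor
  · intro hx
    obtain ⟨p, hp⟩ := Set.mem_iUnion.1 hx
    have h : G.hom x = p := (connectedComponentIn_subset _ _ hp : x ∈ G.hom ⁻¹' {_})
    show x ∈ connectedComponentIn _ (η[G].left (G.hom x))
    rw [h]
    exact hp
  · exact fun hx => Set.mem_iUnion.2 ⟨G.hom x, hx⟩

theorem neutralSet_bc {S' : Scheme.{u}} (f : S' ⟶ S) :
    neutralSet (Red.bc f G) = (pullback.fst G.hom f) ⁻¹' neutralSet G := by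
  rw [neutralSet_eq, neutralSet_eq]
  refine S1324.result G.hom η[G].left (Over.w η[G]) (Red.bc f G).hom (pullback.fst G.hom f) f
    (IsPullback.of_hasPullback G.hom f) η[Red.bc f G].left (Over.w η[Red.bc f G]) ?_
  simp [Red.bc, Functor.obj.η_def]

theorem unit_mem (s : S) : η[G].left s ∈ neutralSet G := by
  have h : G.hom (η[G].left s) = s := congrArg (fun m => m s) (Over.w η[G])
  rw [neutralSet_eq]
  show η[G].left s ∈ connectedComponentIn (G.hom ⁻¹' {G.hom (η[G].left s)}) (η[G].left (G.hom (η[G].left s)))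
  rw [h]
  exact mem_connectedComponentIn h

theorem range_unit_subset : Set.range η[G].left ⊆ neutralSet G := by
  rintro _ ⟨s, rfl⟩; exact unit_mem s

theorem neutralSet_field {K : Type u} [Field K] {G : Over (Spec (CommRingCat.of K))} [GrpObj G] :
    neutralSet G = connectedComponent (GrpSchLib.unitPt G) := by
  rw [neutralSet_eq]
  ext x
  show x ∈ connectedComponentIn _ (η[G].left (G.hom x)) ↔ _
  rw [show G.hom x = IsLocalRing.closedPoint K from Subsingleton.elim (α := PrimeSpectrum K) _ _,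
    show G.hom ⁻¹' {IsLocalRing.closedPoint K} = Set.univ from
      Set.eq_univ_of_forall fun y => Subsingleton.elim (α := PrimeSpectrum K) _ _,
    connectedComponentIn_univ]

theorem exists_bc_point {T : Over S} (t : T.left) :
    ∃ (K : Type u) (_ : Field K) (ψ : Spec (CommRingCat.of K) ⟶ S) (ρ : Spec (CommRingCat.of K) ⟶ T.left),
      ρ ≫ T.hom = ψ ∧ ∀ p, ρ p = t :=
  ⟨T.left.residueField t, inferInstance, T.left.fromSpecResidueField t ≫ T.hom, T.left.fromSpecResidueField t,
    rfl, fun p => Scheme.fromSpecResidueField_apply t p⟩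

/-- A point with values over a field gives a rational point of the base change. -/
theorem exists_bcPoint {K : Type u} [Field K] {T : Over S} (ρ : Spec (CommRingCat.of K) ⟶ T.left)
    {ψ : Spec (CommRingCat.of K) ⟶ S} (hρ : ρ ≫ T.hom = ψ) :
    ∃ r : 𝟙_ (Over (Spec (CommRingCat.of K))) ⟶ Red.bc ψ T, r.left ≫ pullback.fst T.hom ψ = ρ :=
  ⟨Over.homMk (pullback.lift ρ (𝟙 _) (by rw [Category.id_comp]; exact hρ)) (pullback.lift_snd _ _ _),
    pullback.lift_fst _ _ _⟩

/-- Products of points in the neutral components. -/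
theorem range_mul_subset {T : Over S} (a b : T ⟶ G) (ha : Set.range a.left ⊆ neutralSet G)
    (hb : Set.range b.left ⊆ neutralSet G) : Set.range (a * b).left ⊆ neutralSet G := by
  rintro _ ⟨t, rfl⟩
  obtain ⟨K, _, ψ, ρ, hρ, ht⟩ := exists_bc_point t
  obtain ⟨r, hr⟩ := exists_bcPoint ρ hρ
  let p : ↥(𝟙_ (Over (Spec (CommRingCat.of K)))).left := IsLocalRing.closedPoint K
  have key : ∀ c : T ⟶ G, pullback.fst G.hom ψ ((r ≫ (Over.pullback ψ).map c).left p) = c.left t := fun c => by
    have h : (r ≫ (Over.pullback ψ).map c).left ≫ pullback.fst G.hom ψ = ρ ≫ c.left := by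
      rw [← hr]; simp
    exact (congrArg (fun m => m p) h).trans (congrArg c.left (ht p))
  have hmem : ∀ c : T ⟶ G, Set.range c.left ⊆ neutralSet G →
      (r ≫ (Over.pullback ψ).map c).left p ∈ connectedComponent (η[Red.bc ψ G].left p) := fun c hc => by
    have h : (r ≫ (Over.pullback ψ).map c).left p ∈ neutralSet (Red.bc ψ G) := by
      rw [neutralSet_bc]
      show pullback.fst G.hom ψ _ ∈ neutralSet G
      rw [key]
      exact hc ⟨t, rfl⟩
    rwa [neutralSet_field] at h
  have h := mul_mem_connectedComponent (G := Red.bc ψ G) _ _ p (hmem a ha) (hmem b hb)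
  rw [← key (a * b), ← Set.mem_preimage, ← neutralSet_bc, neutralSet_field, Functor.map_mul, MonObj.comp_mul]
  exact h

theorem range_inv_subset {T : Over S} (a : T ⟶ G) (ha : Set.range a.left ⊆ neutralSet G) :
    Set.range a⁻¹.left ⊆ neutralSet G := by
  rintro _ ⟨t, rfl⟩
  obtain ⟨K, _, ψ, ρ, hρ, ht⟩ := exists_bc_point t
  obtain ⟨r, hr⟩ := exists_bcPoint ρ hρ
  let p : ↥(𝟙_ (Over (Spec (CommRingCat.of K)))).left := IsLocalRing.closedPoint K
  have key : ∀ c : T ⟶ G, pullback.fst G.hom ψ ((r ≫ (Over.pullback ψ).map c).left p) = c.left t := fun c => by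
    have h : (r ≫ (Over.pullback ψ).map c).left ≫ pullback.fst G.hom ψ = ρ ≫ c.left := by
      rw [← hr]; simp
    exact (congrArg (fun m => m p) h).trans (congrArg c.left (ht p))
  have hmem : (r ≫ (Over.pullback ψ).map a).left p ∈ connectedComponent (η[Red.bc ψ G].left p) := by
    have h : (r ≫ (Over.pullback ψ).map a).left p ∈ neutralSet (Red.bc ψ G) := by
      rw [neutralSet_bc]
      show pullback.fst G.hom ψ _ ∈ neutralSet G
      rw [key]
      exact ha ⟨t, rfl⟩
    rwa [neutralSet_field] at h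
  have h := inv_mem_connectedComponent (G := Red.bc ψ G) _ p hmem
  rw [← key a⁻¹, ← Set.mem_preimage, ← neutralSet_bc, neutralSet_field, Functor.map_inv', GrpObj.comp_inv]
  exact h

/-- A point of a neutral component is a product of two points of a set which, in its fibre, is a
neighbourhood of the unit. -/
theorem mem_image_of_fibre (x : G.left) (hx : x ∈ neutralSet G) (U : Set G.left)
    (hU : ∃ W : Set (Red.bc (S.fromSpecResidueField (G.hom x)) G).left, IsOpen W ∧
      GrpSchLib.unitPt (G := Red.bc (S.fromSpecResidueField (G.hom x)) G) ∈ W ∧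
      W ⊆ pullback.fst G.hom (S.fromSpecResidueField (G.hom x)) ⁻¹' U) :
    x ∈ μ[G].left '' ((fst G G).left ⁻¹' U ∩ (snd G G).left ⁻¹' U) := by
  obtain ⟨W, hW, heW, hWU⟩ := hU
  let s := G.hom x
  let ψ : Spec (CommRingCat.of (S.residueField s)) ⟶ S := S.fromSpecResidueField s
  obtain ⟨y, hy⟩ : ∃ y : (Red.bc ψ G).left, pullback.fst G.hom ψ y = x :=
    ⟨G.hom.asFiber x, G.hom.fiberι_asFiber x⟩
  have hyN : y ∈ GrpSchLib.idComp (Red.bc ψ G) := by
    show y ∈ irreducibleComponent (GrpSchLib.unitPt (Red.bc ψ G))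
    rw [← GrpSchLib.connectedComponent_eq, ← neutralSet_field, neutralSet_bc]
    show pullback.fst G.hom ψ y ∈ neutralSet G
    rw [hy]; exact hx
  obtain ⟨w, ⟨hw₁, hw₂⟩, hw⟩ := mem_image_mul W hW heW y hyN
  let F := Over.pullback ψ
  let k := Functor.LaxMonoidal.μ F G G
  have key : ∀ c : G ⊗ G ⟶ G, c.left (pullback.fst (G ⊗ G).hom ψ (k.left w)) =
      pullback.fst G.hom ψ ((k ≫ F.map c).left w) := fun c => by
    have h : (k ≫ F.map c).left ≫ pullback.fst G.hom ψ = k.left ≫ pullback.fst (G ⊗ G).hom ψ ≫ c.left := by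
      simp [F]
    exact (congrArg (fun m => m w) h).symm
  refine ⟨pullback.fst (G ⊗ G).hom ψ (k.left w), ⟨?_, ?_⟩, ?_⟩
  · show (fst G G).left _ ∈ U
    rw [key, Functor.Monoidal.μ_fst]
    exact hWU hw₁
  · show (snd G G).left _ ∈ U
    rw [key, Functor.Monoidal.μ_snd]
    exact hWU hw₂
  · rw [key, ← hy, ← hw]
    rfl

theorem mem_image_of_isOpen (x : G.left) (hx : x ∈ neutralSet G) (U : Set G.left) (hU : IsOpen U)
    (he : η[G].left (G.hom x) ∈ U) : x ∈ μ[G].left '' ((fst G G).left ⁻¹' U ∩ (snd G G).left ⁻¹' U) :=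
  mem_image_of_fibre x hx U ⟨_, hU.preimage (pullback.fst G.hom _).continuous,
    show pullback.fst G.hom _ _ ∈ U from (OpenSubgrp.fiberι_unit (N := G) (G.hom x) _).symm ▸ he, subset_rfl⟩

/-- Neutral components are covered by products. -/
theorem subset_image_mul (U : Set G.left) (hU : IsOpen U) (he : Set.range η[G].left ⊆ U) :
    neutralSet G ⊆ μ[G].left '' ((fst G G).left ⁻¹' U ∩ (snd G G).left ⁻¹' U) :=
  fun x hx => mem_image_of_isOpen x hx U hU (he ⟨_, rfl⟩)

/-- Neutral components are stable under products of points. -/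
theorem image_mul_subset :
    μ[G].left '' ((fst G G).left ⁻¹' neutralSet G ∩ (snd G G).left ⁻¹' neutralSet G) ⊆ neutralSet G := by
  rintro _ ⟨w, ⟨h₁, h₂⟩, rfl⟩
  let T : Over S := Over.mk ((G ⊗ G).left.fromSpecResidueField w ≫ (G ⊗ G).hom)
  let r : T ⟶ G ⊗ G := Over.homMk ((G ⊗ G).left.fromSpecResidueField w) rfl
  have hr : ∀ (c : G ⊗ G ⟶ G) t, (r ≫ c).left t = c.left w := fun c t => by
    show c.left ((G ⊗ G).left.fromSpecResidueField w t) = c.left w
    rw [Scheme.fromSpecResidueField_apply]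
  have h := range_mul_subset (r ≫ fst G G) (r ≫ snd G G)
    (by rintro _ ⟨t, rfl⟩; rw [hr]; exact h₁) (by rintro _ ⟨t, rfl⟩; rw [hr]; exact h₂)
  rw [Hom.mul_def, ← comp_lift, lift_fst_snd, Category.comp_id] at h
  obtain ⟨t⟩ : Nonempty T.left := inferInstanceAs (Nonempty ↥(Spec _))
  exact hr μ[G] t ▸ h ⟨t, rfl⟩

end Groth.Agent.Neutral

end
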