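import Groth.Agent.Neutral.Basic
import Groth.Agent.S1326
import Groth.Agent.S1327
import Groth.Agent.ProConsLib.Scheme

/-!
The neutral components near the unit section: affine charts around the unit, and their section components.
-/

set_option autoImplicit false
set_option backward.isDefEq.respectTransparency false
set_option backward.isDefEq.respectTransparency.types false
set_option linter.style.haveILetI false

universe u

open CategoryTheory CategoryTheory.Limits MonoidalCategory CartesianMonoidalCategory MonObj GrpObj AlgebraicGeometry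
open SGA3x

noncomputable section

namespace Groth.Agent.Neutral

theorem exists_open_subset_connectedComponentIn (Y : Scheme.{u}) [IsLocallyNoetherian Y] {F : Set Y} (hF : IsOpen F)
    {y : Y} (hy : y ∈ F) : ∃ W : Set Y, IsOpen W ∧ y ∈ W ∧ W ⊆ connectedComponentIn F y := by
  obtain ⟨A, hA, hyA, hAF⟩ := exists_isAffineOpen_mem_and_subset (U := ⟨F, hF⟩) (x := y) hy
  haveI : IsAffine (A : Scheme) := hA
  haveI : IsNoetherian (A : Scheme) := { }
  let B := ⋃₀ {Z | Z ∈ irreducibleComponents ↥(A : Scheme) ∧ (⟨y, hyA⟩ : (A : Scheme)) ∉ Z}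
  have hB : IsClosed B := by
    rw [show B = _ from Set.sUnion_eq_biUnion]
    exact (TopologicalSpace.NoetherianSpace.finite_irreducibleComponents.subset fun Z hZ => hZ.1).isClosed_biUnion
      fun Z hZ => isClosed_of_mem_irreducibleComponents Z hZ.1
  refine ⟨A.ι '' Bᶜ, A.ι.isOpenEmbedding.isOpenMap _ hB.isOpen_compl, ⟨⟨y, hyA⟩, ?_, rfl⟩, ?_⟩
  · rintro ⟨Z, ⟨-, hZ⟩, hmem⟩
    exact hZ hmem
  · rintro _ ⟨z, hz, rfl⟩
    obtain ⟨Z, hZ, hzZ⟩ : ∃ Z ∈ irreducibleComponents ↥(A : Scheme), z ∈ Z :=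
      ⟨_, irreducibleComponent_mem_irreducibleComponents z, mem_irreducibleComponent⟩
    have hyZ : (⟨y, hyA⟩ : (A : Scheme)) ∈ Z := by
      by_contra h
      exact hz ⟨Z, ⟨hZ, h⟩, hzZ⟩
    refine IsPreconnected.subset_connectedComponentIn
      (hZ.1.isConnected.isPreconnected.image A.ι A.ι.continuous.continuousOn) ⟨_, hyZ, rfl⟩ ?_ ⟨z, hzZ, rfl⟩
    rintro _ ⟨w, -, rfl⟩
    exact hAF w.2

variable {S : Scheme.{u}} (G : Over S) [GrpObj G]

theorem hom_unit (t : S) : G.hom (η[G].left t) = t :=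
  (congrArg (fun m => m t) (Over.w η[G]) : (η[G].left ≫ G.hom) t = _)

theorem exists_chart (O : G.left.Opens) (hO : ∀ t : S, η[G].left t ∈ O) (s : S) :
    ∃ (V : S.Opens) (A : G.left.Opens), IsAffineOpen V ∧ IsAffineOpen A ∧ s ∈ V ∧ A ≤ O ∧ A ≤ G.hom ⁻¹ᵁ V ∧
      ∀ t ∈ V, η[G].left t ∈ A := by
  obtain ⟨V₀, hV₀, hsV₀, -⟩ := exists_isAffineOpen_mem_and_subset (X := S) (x := s) (U := ⊤) trivial
  have hmem : η[G].left s ∈ O ⊓ G.hom ⁻¹ᵁ V₀ := ⟨hO s, by
    show G.hom (η[G].left s) ∈ V₀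
    rw [show G.hom (η[G].left s) = s from congrArg (fun m => m s) (Over.w η[G])]
    exact hsV₀⟩
  obtain ⟨A₀, hA₀, hsA₀, hA₀le⟩ := exists_isAffineOpen_mem_and_subset hmem
  let e : S ⟶ G.left := η[G].left
  obtain ⟨g, hgle, hsg⟩ := hV₀.exists_basicOpen_le (V := e ⁻¹ᵁ A₀) ⟨s, hsA₀⟩ hsV₀
  have hA₀V₀ : A₀ ≤ G.hom ⁻¹ᵁ V₀ := fun x hx => (hA₀le hx).2
  refine ⟨S.basicOpen g, A₀ ⊓ G.hom ⁻¹ᵁ S.basicOpen g, hV₀.basicOpen g, ?_, hsg,
    fun x hx => (hA₀le hx.1).1, inf_le_right, fun t ht => ⟨hgle ht, ?_⟩⟩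
  · rw [show A₀ ⊓ G.hom ⁻¹ᵁ S.basicOpen g = G.left.basicOpen (G.hom.appLE V₀ A₀ hA₀V₀ g) by
      rw [Scheme.basicOpen_appLE, inf_comm]]
    exact hA₀.basicOpen _
  · show G.hom (η[G].left t) ∈ S.basicOpen g
    rw [show G.hom (η[G].left t) = t from congrArg (fun m => m t) (Over.w η[G])]
    exact ht

variable {G} {V : S.Opens} {A : G.left.Opens} (hAV : A ≤ G.hom ⁻¹ᵁ V) (heV : ∀ t ∈ V, η[G].left t ∈ A)

/-- The structure map of a chart. -/
abbrev chartMap : (A : Scheme) ⟶ (V : Scheme) := G.hom.resLE V A hAV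

/-- The unit section of a chart. -/
abbrev chartSection : (V : Scheme) ⟶ (A : Scheme) := Scheme.Hom.resLE (η[G].left : S ⟶ G.left) A V heV

theorem chartSection_chartMap : chartSection heV ≫ chartMap hAV = 𝟙 _ := by
  rw [← cancel_mono V.ι, Category.id_comp, Category.assoc, Scheme.Hom.resLE_comp_ι,
    ← Category.assoc, Scheme.Hom.resLE_comp_ι, Category.assoc]
  exact (congrArg (V.ι ≫ ·) (Over.w η[G])).trans (Category.comp_id _)

/-- The neutral components of the chart. -/
def chartSet : Set G.left := A.ι '' MoreMor.sectionComponents (chartMap hAV) (chartSection heV)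

theorem chartSet_subset : chartSet hAV heV ⊆ neutralSet G := by
  rintro _ ⟨a, ha, rfl⟩
  rw [neutralSet_eq]
  show A.ι a ∈ connectedComponentIn (G.hom ⁻¹' {G.hom (A.ι a)}) (η[G].left (G.hom (A.ι a)))
  have h1 : V.ι (chartMap hAV a) = G.hom (A.ι a) :=
    congrArg (fun m => m a) (Scheme.Hom.resLE_comp_ι G.hom hAV)
  have h2 : ∀ v, A.ι (chartSection heV v) = η[G].left (V.ι v) := fun v =>
    congrArg (fun m => m v) (Scheme.Hom.resLE_comp_ι (η[G].left : S ⟶ G.left) heV)
  have hin : chartSection heV (chartMap hAV a) ∈ chartMap hAV ⁻¹' {chartMap hAV a} :=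
    (congrArg (fun m : (V : Scheme) ⟶ (V : Scheme) => m (chartMap hAV a)) (chartSection_chartMap hAV heV) :)
  have := A.ι.continuous.image_connectedComponentIn_subset hin ⟨a, ha, rfl⟩
  rw [← h1, ← h2]
  refine connectedComponentIn_mono _ ?_ this
  rintro _ ⟨b, hb, rfl⟩
  show G.hom (A.ι b) = V.ι (chartMap hAV a)
  rw [← hb]
  exact (congrArg (fun m => m b) (Scheme.Hom.resLE_comp_ι G.hom hAV)).symm

/-- Points of the neutral component of a fibre near the unit, inside the chart. -/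
theorem mem_chartSet_of_mem_connectedComponentIn (t : S) (ht : t ∈ V) (x : G.left)
    (hx : x ∈ connectedComponentIn ((A : Set G.left) ∩ G.hom ⁻¹' {t}) (η[G].left t)) : x ∈ chartSet hAV heV := by
  obtain ⟨hxA, hxt⟩ := connectedComponentIn_subset _ _ hx
  refine ⟨⟨x, hxA⟩, ?_, rfl⟩
  let C := connectedComponentIn ((A : Set G.left) ∩ G.hom ⁻¹' {t}) (η[G].left t)
  have hmapval : ∀ b : (A : Scheme), V.ι (chartMap hAV b) = G.hom (A.ι b) := fun b =>
    congrArg (fun m => m b) (Scheme.Hom.resLE_comp_ι G.hom hAV)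
  have hv : chartMap hAV ⟨x, hxA⟩ = ⟨t, ht⟩ := Subtype.ext ((hmapval _).trans hxt)
  show (⟨x, hxA⟩ : (A : Scheme)) ∈ connectedComponentIn _ _
  rw [hv]
  have hsec : A.ι (chartSection heV ⟨t, ht⟩) = η[G].left t :=
    congrArg (fun m => m (⟨t, ht⟩ : (V : Scheme))) (Scheme.Hom.resLE_comp_ι (η[G].left : S ⟶ G.left) heV)
  have hC : _root_.IsPreconnected (A.ι ⁻¹' C) :=
    (isPreconnected_connectedComponentIn : _root_.IsPreconnected C).preimage_of_isOpenMap A.ι.isOpenEmbedding.injective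
      A.ι.isOpenEmbedding.isOpenMap (by
        rw [Scheme.Opens.range_ι]
        exact fun z (hz : z ∈ C) => ((connectedComponentIn_subset _ _ hz : z ∈ _ ∩ _)).1)
  refine hC.subset_connectedComponentIn (x := chartSection heV ⟨t, ht⟩) ?_ ?_ hx
  · show A.ι _ ∈ C
    rw [hsec]
    exact mem_connectedComponentIn ⟨heV t ht, hom_unit G t⟩
  · intro b hb
    exact Subtype.ext ((hmapval b).trans (connectedComponentIn_subset _ _ hb).2)

/-- In each fibre the chart set is a neighbourhood of the unit. -/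
theorem exists_fibre_nhd [LocallyOfFiniteType G.hom] (t : S) (ht : t ∈ V) :
    ∃ W : Set (Red.bc (S.fromSpecResidueField t) G).left, IsOpen W ∧
      GrpSchLib.unitPt (G := Red.bc (S.fromSpecResidueField t) G) ∈ W ∧
      W ⊆ pullback.fst G.hom (S.fromSpecResidueField t) ⁻¹' chartSet hAV heV := by
  let π := pullback.fst G.hom (S.fromSpecResidueField t)
  haveI : LocallyOfFiniteType (Red.bc (S.fromSpecResidueField t) G).hom :=
    MorphismProperty.pullback_snd (P := @LocallyOfFiniteType) _ _ ‹_›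
  haveI : IsLocallyNoetherian (Red.bc (S.fromSpecResidueField t) G).left :=
    LocallyOfFiniteType.isLocallyNoetherian (Red.bc (S.fromSpecResidueField t) G).hom
  have he : π (GrpSchLib.unitPt (G := Red.bc (S.fromSpecResidueField t) G)) = η[G].left t :=
    OpenSubgrp.fiberι_unit t _
  obtain ⟨W, hW, heW, hWC⟩ := exists_open_subset_connectedComponentIn _ (A.2.preimage π.continuous)
    (show π (GrpSchLib.unitPt (G := Red.bc (S.fromSpecResidueField t) G)) ∈ A by rw [he]; exact heV t ht)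
  refine ⟨W, hW, heW, fun w hw => mem_chartSet_of_mem_connectedComponentIn hAV heV t ht _ ?_⟩
  have heA : GrpSchLib.unitPt (G := Red.bc (S.fromSpecResidueField t) G) ∈ π ⁻¹' (A : Set G.left) := by
    show π _ ∈ A
    rw [he]; exact heV t ht
  have := π.continuous.image_connectedComponentIn_subset heA ⟨w, hWC hw, rfl⟩
  rw [he] at this
  refine connectedComponentIn_mono _ ?_ this
  rintro _ ⟨b, hb, rfl⟩
  exact ⟨hb, (G.hom.range_fiberι t).le ⟨b, rfl⟩⟩

end Groth.Agent.Neutral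

end
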