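import Groth.Agent.Neutral.UnivOpen

/-!
The coincidence subscheme of two sections with values in the neutral components is closed, when the fibre dimensions
are locally constant.
-/

set_option autoImplicit false
set_option backward.isDefEq.respectTransparency false
set_option backward.isDefEq.respectTransparency.types false
set_option linter.style.haveILetI false

universe u

open CategoryTheory CategoryTheory.Limits MonoidalCategory CartesianMonoidalCategory MonObj GrpObj AlgebraicGeometry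
open SGA3x

noncomputable section

namespace Groth.Agent.Neutral

variable {S : Scheme.{u}} {G : Over S} [GrpObj G]

theorem exists_mem_translate [LocallyOfFinitePresentation G.hom] {V : S.Opens} {A : G.left.Opens}
    (heA : ∀ t ∈ V, η[G].left t ∈ A)
    (σ τ : 𝟙_ (Over S) ⟶ G) (hσ : Set.range σ.left ⊆ neutralSet G) (hτ : Set.range τ.left ⊆ neutralSet G)
    (t : S) (ht : t ∈ V) :
    ∃ c : G.left, G.hom c = t ∧ c ∈ neutralSet G ∧
      (((𝟙 G : G ⟶ G) * (toUnit G ≫ σ)).left c ∈ A) ∧ (((𝟙 G : G ⟶ G) * (toUnit G ≫ τ)).left c ∈ A) := by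
  haveI : LocallyOfFiniteType (Red.bc (S.fromSpecResidueField t) G).hom :=
    MorphismProperty.pullback_snd (P := @LocallyOfFiniteType) _ _ inferInstance
  have hN : IsIrreducible (neutralSet (Red.bc (S.fromSpecResidueField t) G)) := isIrreducible_neutralSet
  let O : ∀ ρ : 𝟙_ (Over S) ⟶ G, Set (Red.bc (S.fromSpecResidueField t) G).left := fun ρ =>
    OpenSubgrp.ιs G t ⁻¹' (((𝟙 G : G ⟶ G) * (toUnit G ≫ ρ)).left ⁻¹' (A : Set G.left))
  have hO : ∀ ρ, IsOpen (O ρ) := fun ρ =>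
    (A.2.preimage ((𝟙 G : G ⟶ G) * (toUnit G ≫ ρ)).left.continuous).preimage (OpenSubgrp.ιs G t).continuous
  have hne : ∀ ρ : 𝟙_ (Over S) ⟶ G, Set.range ρ.left ⊆ neutralSet G →
      (neutralSet (Red.bc (S.fromSpecResidueField t) G) ∩ O ρ).Nonempty := fun ρ hρ => by
    have hinv : ρ⁻¹.left t ∈ neutralSet G := range_inv_subset ρ hρ ⟨t, rfl⟩
    have hhom : G.hom (ρ⁻¹.left t) = t := (congrArg (fun m => m t) (Over.w ρ⁻¹) :)
    obtain ⟨y, hy⟩ := (OpenSubgrp.range_ιs G t).ge hhom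
    refine ⟨y, ?_, ?_⟩
    · rw [neutralSet_bc]
      show OpenSubgrp.ιs G t y ∈ neutralSet G
      rw [hy]; exact hinv
    · show ((𝟙 G : G ⟶ G) * (toUnit G ≫ ρ)).left (OpenSubgrp.ιs G t y) ∈ A
      rw [hy]
      have h : ρ⁻¹ ≫ ((𝟙 G : G ⟶ G) * (toUnit G ≫ ρ)) = 1 := by
        rw [MonObj.comp_mul, Category.comp_id, ← Category.assoc, toUnit_unique (ρ⁻¹ ≫ toUnit G) (𝟙 _),
          Category.id_comp, inv_mul_cancel]
      show (ρ⁻¹ ≫ ((𝟙 G : G ⟶ G) * (toUnit G ≫ ρ))).left t ∈ A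
      rw [h, Hom.one_def, toUnit_unique (toUnit (𝟙_ (Over S))) (𝟙 _), Category.id_comp]
      exact heA t ht
  obtain ⟨y, hyN, hy₁, hy₂⟩ := hN.2 _ _ (hO σ) (hO τ) (hne σ hσ) (hne τ hτ)
  refine ⟨OpenSubgrp.ιs G t y, (OpenSubgrp.range_ιs G t).le ⟨y, rfl⟩, ?_, hy₁, hy₂⟩
  rwa [neutralSet_bc] at hyN

theorem isClosedImmersion_coincidence [LocallyOfFinitePresentation G.hom]
    (hdim : IsLocallyConstant (fun s : S => topologicalKrullDim ↥(G.hom.base ⁻¹' {s})))
    (σ τ : 𝟙_ (Over S) ⟶ G) (hσ : Set.range σ.left ⊆ neutralSet G) (hτ : Set.range τ.left ⊆ neutralSet G) :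
    IsClosedImmersion (pullback.fst (lift σ τ) (lift (𝟙 G) (𝟙 G))).left := by
  let K := pullback (lift σ τ) (lift (𝟙 G) (𝟙 G))
  let k : K ⟶ 𝟙_ (Over S) := pullback.fst _ _
  have hk : k ≫ σ = k ≫ τ := by
    have h := (pullback.condition : k ≫ lift σ τ = pullback.snd _ _ ≫ lift (𝟙 G) (𝟙 G))
    have h1 := congrArg (· ≫ fst G G) h
    have h2 := congrArg (· ≫ snd G G) h
    simp only [Category.assoc, lift_fst, lift_snd, Category.comp_id] at h1 h2
    exact h1.trans h2.symm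
  haveI : IsImmersion (lift (𝟙 G) (𝟙 G) : G ⟶ G ⊗ G).left := by
    haveI : IsImmersion ((lift (𝟙 G) (𝟙 G) : G ⟶ G ⊗ G).left ≫ (fst G G).left) := by
      rw [← Over.comp_left, lift_fst]
      exact inferInstanceAs (IsImmersion (𝟙 G.left))
    exact IsImmersion.of_comp _ (fst G G).left
  haveI : IsImmersion k.left :=
    MorphismProperty.of_isPullback (P := @IsImmersion)
      ((IsPullback.of_hasPullback (lift σ τ) (lift (𝟙 G) (𝟙 G))).map (Over.forget S)).flip ‹_›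
  refine IsClosedImmersion.of_isPreimmersion _ ?_
  rw [← isOpen_compl_iff, isOpen_iff_mem_nhds]
  intro t ht
  obtain ⟨V, A, hV, hA, htV, -, hAV, heA⟩ := exists_chart G ⊤ (fun _ => trivial) t
  haveI : IsAffine (A : Scheme) := hA
  haveI : IsAffine (V : Scheme) := hV
  haveI : IsSeparated (A.ι ≫ G.hom) := by
    rw [← Scheme.Hom.resLE_comp_ι G.hom hAV]
    infer_instance
  obtain ⟨c, hct, hcN, hcσ, hcτ⟩ := exists_mem_translate heA σ τ hσ hτ t htV
  let N : G.left.Opens := ((𝟙 G : G ⟶ G) * (toUnit G ≫ σ)).left ⁻¹ᵁ A ⊓ ((𝟙 G : G ⟶ G) * (toUnit G ≫ τ)).left ⁻¹ᵁ A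
  let T : Over S := Over.mk (N.ι ≫ G.hom)
  let j : T ⟶ G := Over.homMk N.ι rfl
  let Ao : Over S := Over.mk (A.ι ≫ G.hom)
  let a : Ao ⟶ G := Over.homMk A.ι rfl
  haveI : Mono a := (Over.forget S).mono_of_mono_map (inferInstanceAs (Mono A.ι))
  have hlift : ∀ ρ : 𝟙_ (Over S) ⟶ G, N ≤ ((𝟙 G : G ⟶ G) * (toUnit G ≫ ρ)).left ⁻¹ᵁ A →
      ∃ z : T ⟶ Ao, z ≫ a = j * (toUnit T ≫ ρ) := fun ρ hle => by
    have heq : j * (toUnit T ≫ ρ) = j ≫ ((𝟙 G : G ⟶ G) * (toUnit G ≫ ρ)) := by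
      rw [MonObj.comp_mul, Category.comp_id, ← Category.assoc, toUnit_unique (j ≫ toUnit G) (toUnit T)]
    have hr : Set.range (j * (toUnit T ≫ ρ)).left ⊆ Set.range A.ι := by
      rw [heq, Scheme.Opens.range_ι]
      rintro _ ⟨n, rfl⟩
      exact hle n.2
    refine ⟨Over.homMk (IsOpenImmersion.lift A.ι (j * (toUnit T ≫ ρ)).left hr) ?_, Over.OverMorphism.ext (IsOpenImmersion.lift_fac _ _ _)⟩
    show _ ≫ A.ι ≫ G.hom = T.hom
    rw [← Category.assoc]
    exact (congrArg (· ≫ G.hom) (IsOpenImmersion.lift_fac A.ι _ _)).trans (Over.w _)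
  obtain ⟨zσ, hzσ⟩ := hlift σ inf_le_left
  obtain ⟨zτ, hzτ⟩ := hlift τ inf_le_right
  haveI : IsSeparated Ao.hom := ‹IsSeparated (A.ι ≫ G.hom)›
  obtain ⟨E, eι, hEcl, hEeq, hEuniv⟩ : ∃ (E : Over S) (eι : E ⟶ T), IsClosed (Set.range eι.left) ∧
      eι ≫ zσ = eι ≫ zτ ∧ ∀ (W : Over S) (w : W ⟶ T), w ≫ zσ = w ≫ zτ → ∃ z, z ≫ eι = w := by
    let E := pullback (lift zσ zτ) (lift (𝟙 Ao) (𝟙 Ao))
    haveI : IsClosedImmersion (lift (𝟙 Ao) (𝟙 Ao) : Ao ⟶ Ao ⊗ Ao).left := by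
      have h : (lift (𝟙 Ao) (𝟙 Ao) : Ao ⟶ Ao ⊗ Ao).left = pullback.diagonal Ao.hom := by
        apply pullback.hom_ext
        · exact (congrArg CommaMorphism.left (lift_fst (𝟙 Ao) (𝟙 Ao))).trans (pullback.diagonal_fst Ao.hom).symm
        · exact (congrArg CommaMorphism.left (lift_snd (𝟙 Ao) (𝟙 Ao))).trans (pullback.diagonal_snd Ao.hom).symm
      rw [h]; infer_instance
    haveI : IsClosedImmersion (pullback.fst (lift zσ zτ) (lift (𝟙 Ao) (𝟙 Ao))).left :=
      MorphismProperty.of_isPullback (P := @IsClosedImmersion)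
        ((IsPullback.of_hasPullback (lift zσ zτ) (lift (𝟙 Ao) (𝟙 Ao))).map (Over.forget S)).flip ‹_›
    refine ⟨E, pullback.fst _ _, (pullback.fst (lift zσ zτ) (lift (𝟙 Ao) (𝟙 Ao))).left.isClosedEmbedding.isClosed_range,
      ?_, fun W w hw => ⟨pullback.lift w (w ≫ zσ) (by
        apply CartesianMonoidalCategory.hom_ext <;> simp [hw]), pullback.lift_fst _ _ _⟩⟩
    have h := (pullback.condition : pullback.fst (lift zσ zτ) (lift (𝟙 Ao) (𝟙 Ao)) ≫ _ = _ ≫ _)
    have h1 := congrArg (· ≫ fst Ao Ao) h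
    have h2 := congrArg (· ≫ snd Ao Ao) h
    simp only [Category.assoc, lift_fst, lift_snd, Category.comp_id] at h1 h2
    exact h1.trans h2.symm
  have hiff : ∀ (W : Over S) (w : W ⟶ T), w ≫ zσ = w ≫ zτ ↔ toUnit W ≫ σ = toUnit W ≫ τ := fun W w => by
    rw [← cancel_mono a, Category.assoc, Category.assoc, hzσ, hzτ, MonObj.comp_mul, MonObj.comp_mul,
      ← Category.assoc, toUnit_unique (w ≫ toUnit T) (toUnit W), ← Category.assoc,
      toUnit_unique (w ≫ toUnit T) (toUnit W)]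
    exact mul_right_inj _
  have hcN' : c ∈ N := ⟨hcσ, hcτ⟩
  have hnotE : (⟨c, hcN'⟩ : T.left) ∉ Set.range eι.left := by
    rintro ⟨e₀, he₀⟩
    let P : Over S := Over.mk (E.left.fromSpecResidueField e₀ ≫ E.hom)
    let p : P ⟶ E := Over.homMk (E.left.fromSpecResidueField e₀) rfl
    have hp := (hiff P (p ≫ eι)).1 (by rw [Category.assoc, hEeq, Category.assoc])
    let z : P ⟶ K := pullback.lift (toUnit P) (toUnit P ≫ σ) (by
      apply CartesianMonoidalCategory.hom_ext <;> simp [hp])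
    refine ht ⟨z.left (IsLocalRing.closedPoint (E.left.residueField e₀)), ?_⟩
    have hz : z ≫ k = toUnit P := pullback.lift_fst _ _ _
    show (z ≫ k).left _ = t
    rw [hz]
    show P.hom (IsLocalRing.closedPoint (E.left.residueField e₀)) = t
    show E.hom (E.left.fromSpecResidueField e₀ _) = t
    rw [Scheme.fromSpecResidueField_apply, ← Over.w eι]
    show G.hom (N.ι (eι.left e₀)) = t
    rw [he₀]
    exact hct
  let W : Set G.left := N.ι '' (Set.range eι.left)ᶜ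
  have hW : IsOpen W := N.ι.isOpenEmbedding.isOpenMap _ hEcl.isOpen_compl
  have hopen : EGA43.IsOpenAt G.hom.base c := by
    have h := isUnivOpenAt_neutral (G := G) c hcN ⟨_, (hdim.isOpen_fiber _).mem_nhds rfl, fun s hs => hs⟩
      S (𝟙 S)
    intro U hU
    obtain ⟨x', hx'⟩ := (pullback.fst G.hom (𝟙 S)).surjective c
    have h' := h x' hx' ((pullback.fst G.hom (𝟙 S)) ⁻¹' U)
      ((pullback.fst G.hom (𝟙 S)).continuous.continuousAt.preimage_mem_nhds (hx'.symm ▸ hU))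
    have hpt : ∀ y, (pullback.snd G.hom (𝟙 S)) y = G.hom (pullback.fst G.hom (𝟙 S) y) := fun y => by
      have := congrArg (fun m : pullback G.hom (𝟙 S) ⟶ S => m y) pullback.condition
      exact this.symm
    rw [hpt, hx'] at h'
    refine Filter.mem_of_superset h' ?_
    rintro _ ⟨y, hy, rfl⟩
    exact ⟨_, hy, (hpt y).symm⟩
  have hcW : W ∈ nhds c := hW.mem_nhds ⟨⟨c, hcN'⟩, hnotE, rfl⟩
  have := hopen W hcW
  rw [hct] at this
  refine Filter.mem_of_superset this ?_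
  rintro _ ⟨_, ⟨n, hn, rfl⟩, rfl⟩ ⟨x, hx⟩
  refine hn ?_
  obtain ⟨q, hq₁, hq₂⟩ := Scheme.Pullback.exists_preimage_pullback (f := T.hom) (g := K.hom) n x (by
    show G.hom (N.ι n) = K.hom x
    rw [← Over.w k]
    exact hx.symm)
  let P : Over S := Over.mk (pullback.fst T.hom K.hom ≫ T.hom)
  let p₁ : P ⟶ T := Over.homMk (pullback.fst T.hom K.hom) rfl
  let p₂ : P ⟶ K := Over.homMk (pullback.snd T.hom K.hom) pullback.condition.symm
  have hP : toUnit P ≫ σ = toUnit P ≫ τ := by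
    rw [← toUnit_unique (p₂ ≫ k) (toUnit P), Category.assoc, Category.assoc, hk]
  obtain ⟨z, hz⟩ := hEuniv P p₁ ((hiff P p₁).2 hP)
  exact ⟨z.left q, (congrArg (fun m : P ⟶ T => m.left q) hz).trans hq₁⟩

end Groth.Agent.Neutral

end
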