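import Groth.Agent.Neutral.Open
import Groth.Agent.S3403
import Groth.Agent.S0414
import Groth.Agent.RedSepLib.Basic

/-!
The neutral components over a nonempty open of a noetherian base.
-/

set_option autoImplicit false
set_option backward.isDefEq.respectTransparency false
set_option backward.isDefEq.respectTransparency.types false
set_option linter.style.haveILetI false

universe u

open CategoryTheory CategoryTheory.Limits MonoidalCategory CartesianMonoidalCategory MonObj GrpObj AlgebraicGeometry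
open SGA3x

noncomputable section

namespace Groth.Agent.Neutral

theorem unit_mem_interior_of_maximal {S : Scheme.{u}} (G : Over S) [GrpObj G] [LocallyOfFinitePresentation G.hom]
    (s : S) (hs : ∀ t : S, t ⤳ s → t = s) : η[G].left s ∈ interior (neutralSet G) := by
  obtain ⟨V, A, -, -, hsV, -, hAV, heA⟩ := exists_chart G ⊤ (fun _ => trivial) s
  rw [S3403.result G.left _ (isIndConstructible_neutralSet G)]
  intro x hx
  have hxs : G.hom x = s := hs _ (by have h := hx.map G.hom.continuous; rwa [hom_unit] at h)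
  obtain ⟨W, hW, heW, hWsub⟩ := exists_fibre_nhd hAV heA s hsV
  obtain ⟨y, rfl⟩ : x ∈ Set.range (pullback.fst G.hom (S.fromSpecResidueField s)) :=
    (G.hom.range_fiberι s).ge hxs
  refine chartSet_subset hAV heA (hWsub ?_)
  have h : y ⤳ GrpSchLib.unitPt (G := Red.bc (S.fromSpecResidueField s) G) := by
    rw [← (G.hom.fiberι s).isEmbedding.isInducing.specializes_iff]
    exact (OpenSubgrp.fiberι_unit (N := G) s _).symm ▸ hx
  exact h.mem_open hW heW

theorem exists_open_integral {T : Scheme.{u}} [IsIntegral T] [IsLocallyNoetherian T] (G : Over T) [GrpObj G]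
    [LocallyOfFiniteType G.hom] :
    ∃ V : T.Opens, IsAffineOpen V ∧ (V : Set T).Nonempty ∧ IsOpen (neutralSet G ∩ G.hom ⁻¹' (V : Set T)) := by
  haveI : LocallyOfFinitePresentation G.hom := inferInstance
  let ξ := genericPoint T
  obtain ⟨A, hA, heA, hAO⟩ := exists_isAffineOpen_mem_and_subset
    (U := ⟨interior (neutralSet G), isOpen_interior⟩) (x := η[G].left ξ)
    (unit_mem_interior_of_maximal G ξ fun t ht => (ht.antisymm (genericPoint_specializes t)).eq)
  obtain ⟨V₀, hV₀, hξV₀, -⟩ := exists_isAffineOpen_mem_and_subset (X := T) (x := ξ) (U := ⊤) trivial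
  let A' : G.left.Opens := A ⊓ G.hom ⁻¹ᵁ V₀
  haveI : QuasiSeparated (A.ι ≫ G.hom) := by
    haveI : IsAffine (A : Scheme) := hA
    infer_instance
  haveI : QuasiCompact (A.ι ≫ G.hom) := by
    haveI : IsAffine (A : Scheme) := hA
    exact quasiCompact_of_compactSpace _
  obtain ⟨U, hUd, hUf, hUp⟩ := S0414.result (A.ι ≫ G.hom)
  let e : T ⟶ G.left := η[G].left
  have hξU : ξ ∈ U := by
    obtain ⟨t, ht⟩ := hUd.nonempty
    exact (genericPoint_specializes t).mem_open U.2 ht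
  obtain ⟨V, hV, hξV, hVle⟩ := exists_isAffineOpen_mem_and_subset (U := U ⊓ e ⁻¹ᵁ A) (x := ξ) ⟨hξU, heA⟩
  let N : G.left.Opens := A ⊓ G.hom ⁻¹ᵁ V
  haveI : IsAffine (A : Scheme) := hA
  have hNA : Set.range N.ι ⊆ Set.range (((A.ι ≫ G.hom) ⁻¹ᵁ U).ι ≫ A.ι) := by
    rw [Scheme.Opens.range_ι]
    intro x hx
    exact ⟨⟨⟨x, hx.1⟩, (hVle hx.2).1⟩, rfl⟩
  let k := IsOpenImmersion.lift (((A.ι ≫ G.hom) ⁻¹ᵁ U).ι ≫ A.ι) N.ι hNA
  have hk : k ≫ ((A.ι ≫ G.hom) ⁻¹ᵁ U).ι ≫ A.ι = N.ι := IsOpenImmersion.lift_fac _ _ _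
  haveI : IsOpenImmersion k := by
    haveI : IsOpenImmersion (k ≫ ((A.ι ≫ G.hom) ⁻¹ᵁ U).ι ≫ A.ι) := by rw [hk]; infer_instance
    exact IsOpenImmersion.of_comp k (((A.ι ≫ G.hom) ⁻¹ᵁ U).ι ≫ A.ι)
  haveI : UniversallyOpen ((A.ι ≫ G.hom) ∣_ U) := UniversallyOpen.of_flat _
  haveI : UniversallyOpen (N.ι ≫ G.hom) := by
    rw [← hk, Category.assoc, Category.assoc, ← morphismRestrict_ι, ← Category.assoc]
    infer_instance
  have hN : (N : Set G.left) ⊆ neutralSet G := fun x hx => interior_subset (hAO hx.1)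
  have heN : ∀ t ∈ V, η[G].left t ∈ N := fun t ht => ⟨(hVle ht).2, by
    show G.hom (η[G].left t) ∈ V
    rw [hom_unit]; exact ht⟩
  refine ⟨V, hV, ⟨ξ, hξV⟩, ?_⟩
  rw [inter_eq_image G N V hN inf_le_right heN]
  exact isOpen_image_mul G N

theorem exists_open_noetherian {T : Scheme.{u}} [IrreducibleSpace T] [IsLocallyNoetherian T] (G : Over T) [GrpObj G]
    [LocallyOfFiniteType G.hom] :
    ∃ W : T.Opens, (W : Set T).Nonempty ∧ IsAffineOpen W ∧ IsOpen (neutralSet G ∩ G.hom ⁻¹' (W : Set T)) ∧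
      IsCompact (neutralSet G ∩ G.hom ⁻¹' (W : Set T)) := by
  let ρ := T.nilradical.subschemeι
  haveI : IsReduced T.nilradical.subscheme := RedSepLib.isReduced_nilradical T
  haveI : Surjective ρ := ⟨RedSepLib.surjective_nilradical T⟩
  haveI : IrreducibleSpace T.nilradical.subscheme :=
    (Homeomorph.irreducibleSpace_iff (ρ.isEmbedding.toHomeomorphOfSurjective ρ.surjective)).2 ‹_›
  haveI : IsIntegral T.nilradical.subscheme := isIntegral_of_irreducibleSpace_of_isReduced _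
  haveI : IsLocallyNoetherian T.nilradical.subscheme := LocallyOfFiniteType.isLocallyNoetherian ρ
  haveI : LocallyOfFiniteType (Red.bc ρ G).hom := MorphismProperty.pullback_snd (P := @LocallyOfFiniteType) _ _ ‹_›
  obtain ⟨V, -, hVne, hopen⟩ := exists_open_integral (Red.bc ρ G)
  let π := pullback.fst G.hom ρ
  haveI : IsClosedImmersion π := inferInstance
  haveI : Surjective π := MorphismProperty.pullback_fst (P := @Surjective) _ _ ‹_›
  let φ := π.isEmbedding.toHomeomorphOfSurjective π.surjective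
  let ψ := ρ.isEmbedding.toHomeomorphOfSurjective ρ.surjective
  obtain ⟨t₀, ht₀⟩ := hVne
  obtain ⟨W, hW, ht₀W, hWV⟩ := exists_isAffineOpen_mem_and_subset
    (U := (⟨ψ '' (V : Set T.nilradical.subscheme), ψ.isOpenMap _ V.2⟩ : T.Opens)) (x := ψ t₀) ⟨t₀, ht₀, rfl⟩
  have hsq : ∀ y, G.hom (π y) = ρ ((Red.bc ρ G).hom y) := fun y => (congrArg (fun m : (Red.bc ρ G).left ⟶ T => m y) pullback.condition :)
  have hVW : ∀ t, ρ t ∈ W → t ∈ V := fun t ht => by
    obtain ⟨t', ht', he⟩ := hWV ht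
    exact ρ.isEmbedding.injective (show ρ t' = ρ t from he) ▸ ht'
  have heq : neutralSet G ∩ G.hom ⁻¹' (W : Set T) =
      φ '' ((neutralSet (Red.bc ρ G) ∩ (Red.bc ρ G).hom ⁻¹' (V : Set T.nilradical.subscheme)) ∩
        π ⁻¹' (G.hom ⁻¹' (W : Set T))) := by
    ext x
    constructor
    · rintro ⟨hxN, hxW⟩
      obtain ⟨y, rfl⟩ := π.surjective x
      exact ⟨y, ⟨⟨by rw [neutralSet_bc]; exact hxN, hVW _ (hsq y ▸ hxW)⟩, hxW⟩, rfl⟩
    · rintro ⟨y, ⟨⟨hyN, -⟩, hyW⟩, rfl⟩
      rw [neutralSet_bc] at hyN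
      exact ⟨hyN, hyW⟩
  have hop : IsOpen (neutralSet G ∩ G.hom ⁻¹' (W : Set T)) := by
    rw [heq]
    exact φ.isOpenMap _ (hopen.inter ((W.2.preimage G.hom.continuous).preimage π.continuous))
  refine ⟨W, ⟨_, ht₀W⟩, hW, hop, isCompact_inter G ⟨_, hop⟩ Set.inter_subset_left hW fun t ht => ⟨unit_mem t, ?_⟩⟩
  show G.hom (η[G].left t) ∈ W
  rw [hom_unit]; exact ht

end Groth.Agent.Neutral

end
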