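import Groth.Agent.Neutral.DimConst
import Groth.Agent.MonoFibre.FlatOrbit
import Groth.Agent.MonoFibre.HomFlat
import Groth.Agent.FlatLocus.FibreCrit

/-!
Flat homomorphisms and neutral components.
-/

set_option autoImplicit false
set_option backward.isDefEq.respectTransparency false
set_option backward.isDefEq.respectTransparency.types false
set_option linter.style.haveILetI false

universe u

open CategoryTheory CategoryTheory.Limits MonoidalCategory CartesianMonoidalCategory MonObj GrpObj AlgebraicGeometry
open SGA3x

noncomputable section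

namespace Groth.Agent.Neutral

section Field

variable {K : Type u} [Field K] {G H : Over (Spec (CommRingCat.of K))} [GrpObj G] [GrpObj H]
  [LocallyOfFiniteType G.hom] [LocallyOfFiniteType H.hom]

theorem image_neutralSet_field_of_flat (u : G ⟶ H) [IsMonHom u] [Flat u.left] :
    u.left '' neutralSet G = neutralSet H := by
  haveI : LocallyOfFinitePresentation H.hom := inferInstance
  haveI : LocallyOfFinitePresentation (u.left ≫ H.hom) := by rw [Over.w u]; infer_instance
  haveI : LocallyOfFinitePresentation u.left := FlatLocus.locallyOfFinitePresentation_of_comp u.left H.hom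
  obtain ⟨G0, hG0, i, hi, hio, hr⟩ := exists_subgroup G isOpen_neutralSet_field
  have hrange : Set.range (i ≫ u).left = u.left '' neutralSet G := by
    rw [← hr, ← Set.range_comp]; rfl
  have hopen : IsOpen (Set.range (i ≫ u).left) := by
    rw [hrange]; exact u.left.isOpenMap _ isOpen_neutralSet_field
  have hclosed := GrpSchLib.isClosed_range_of_isOpen (i ≫ u) hopen
  have he : u.left (GrpSchLib.unitPt G) = GrpSchLib.unitPt H :=
    congrArg (fun m : 𝟙_ (Over (Spec (CommRingCat.of K))) ⟶ H => m.left (IsLocalRing.closedPoint K)) (IsMonHom.one_hom u)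
  rw [hrange] at hclosed hopen
  rw [neutralSet_field (G := H)]
  have hmem : GrpSchLib.unitPt H ∈ u.left '' neutralSet G :=
    ⟨GrpSchLib.unitPt G, by rw [neutralSet_field]; exact mem_connectedComponent, he⟩
  refine Set.Subset.antisymm ?_ (IsClopen.connectedComponent_subset ⟨hclosed, hopen⟩ hmem)
  rw [neutralSet_field]
  exact (isConnected_connectedComponent.image _ u.left.continuous.continuousOn).isPreconnected.subset_connectedComponent
    ⟨_, mem_connectedComponent, he⟩

theorem flat_of_image_neutralSet (u : G ⟶ H) [IsMonHom u] [IsReduced H.left]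
    (h : u.left '' neutralSet G = neutralSet H) : Flat u.left := by
  obtain ⟨ξ, hξ⟩ := QuasiSober.sober (isIrreducible_neutralSet (G := H))
    (by rw [neutralSet_field]; exact isClosed_connectedComponent)
  have hmax : MonoFibre.IsMaxPt ξ := fun y hy => by
    have hyN : y ∈ neutralSet H := hy.mem_open isOpen_neutralSet_field hξ.mem
    exact (hy.antisymm (hξ.specializes hyN)).eq
  obtain ⟨x, -, hx⟩ := h.ge hξ.mem
  haveI : Flat G.hom := inferInstance
  refine MonoFibre.flat_hom_of_flat_at u ⟨x, ?_⟩
  have hf := MonoFibre.isField_stalk_of_isMaxPt (hx.symm ▸ hmax : MonoFibre.IsMaxPt (u.left x))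
  letI := hf.toField
  letI : Algebra (H.left.presheaf.stalk (u.left x)) (G.left.presheaf.stalk x) := (u.left.stalkMap x).hom.toAlgebra
  exact (inferInstance : Module.Flat (H.left.presheaf.stalk (u.left x)) (G.left.presheaf.stalk x))

end Field

variable {S : Scheme.{u}} {G H : Over S} [GrpObj G] [GrpObj H]
  [LocallyOfFinitePresentation G.hom] [LocallyOfFinitePresentation H.hom] (u : G ⟶ H) [IsMonHom u]

theorem fib_neutralSet (s : S) :
    OpenSubgrp.ιs H s '' ((OpenSubgrp.fib s u).left '' neutralSet (Red.bc (S.fromSpecResidueField s) G)) =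
      u.left '' (neutralSet G ∩ G.hom ⁻¹' {s}) := by
  have h1 := image_fibre_neutralSet (G := G) s Set.univ
  rw [Set.univ_inter, Set.preimage_univ, Set.univ_inter] at h1
  rw [← h1, ← Set.image_comp, ← Set.image_comp]
  exact Set.image_congr fun y _ => congrArg (fun m => m y) (OpenSubgrp.fib_fiberι s u)

theorem image_neutralSet_of_flat [Flat u.left] : u.left '' neutralSet G = neutralSet H := by
  have key : ∀ s : S, u.left '' (neutralSet G ∩ G.hom ⁻¹' {s}) = neutralSet H ∩ H.hom ⁻¹' {s} := fun s => by
    haveI : LocallyOfFiniteType (Red.bc (S.fromSpecResidueField s) G).hom :=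
      MorphismProperty.pullback_snd (P := @LocallyOfFiniteType) _ _ inferInstance
    haveI : LocallyOfFiniteType (Red.bc (S.fromSpecResidueField s) H).hom :=
      MorphismProperty.pullback_snd (P := @LocallyOfFiniteType) _ _ inferInstance
    haveI : Flat (OpenSubgrp.fib s u).left :=
      MorphismProperty.of_isPullback (P := @Flat) (OpenSubgrp.isPullback_fib s u) ‹_›
    haveI : IsMonHom (OpenSubgrp.fib s u) :=
      inferInstanceAs (IsMonHom ((Over.pullback (S.fromSpecResidueField s)).map u))
    have h1 := image_fibre_neutralSet (G := H) s Set.univ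
    rw [Set.univ_inter, Set.preimage_univ, Set.univ_inter] at h1
    rw [← fib_neutralSet u s, image_neutralSet_field_of_flat (K := S.residueField s) (OpenSubgrp.fib s u), h1]
  ext y
  constructor
  · rintro ⟨x, hx, rfl⟩
    exact ((key (G.hom x)).le ⟨x, ⟨hx, rfl⟩, rfl⟩).1
  · intro hy
    obtain ⟨x, hx, hxy⟩ := (key (H.hom y)).ge ⟨hy, rfl⟩
    exact ⟨x, hx.1, hxy⟩

theorem flat_of_image_eq [Flat G.hom] (hred : ∀ s : S, IsReduced (H.hom.fiber s))
    (h : u.left '' neutralSet G = neutralSet H) : Flat u.left := by
  refine Flat.of_stalkMap _ fun x => ?_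
  haveI : LocallyOfFinitePresentation (u.left ≫ H.hom) := by rw [Over.w u]; infer_instance
  let s := (u.left ≫ H.hom) x
  obtain ⟨z, hz⟩ : x ∈ Set.range ((u.left ≫ H.hom).fiberι s) := by rw [Scheme.Hom.range_fiberι]; exact rfl
  let j := S.fromSpecResidueField s
  let u' : Red.bc j G ⟶ Red.bc j H := OpenSubgrp.fib s u
  haveI : IsMonHom u' := inferInstanceAs (IsMonHom ((CategoryTheory.Over.pullback j).map u))
  haveI : IsReduced (Red.bc j H).left := hred s
  haveI : LocallyOfFiniteType (Red.bc j G).hom := MorphismProperty.pullback_snd (P := @LocallyOfFiniteType) _ _ inferInstance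
  haveI : LocallyOfFiniteType (Red.bc j H).hom := MorphismProperty.pullback_snd (P := @LocallyOfFiniteType) _ _ inferInstance
  have himg : u'.left '' neutralSet (Red.bc j G) = neutralSet (Red.bc j H) := by
    apply (OpenSubgrp.isEmbedding_ιs H s).injective.image_injective
    have h1 := image_fibre_neutralSet (G := H) s Set.univ
    rw [Set.univ_inter, Set.preimage_univ, Set.univ_inter] at h1
    rw [fib_neutralSet u s, h1]
    ext y
    constructor
    · rintro ⟨x, ⟨hx, hxs⟩, rfl⟩
      exact ⟨h.le ⟨x, hx, rfl⟩, ((congrArg (fun m => m x) (Over.w u) :) : H.hom (u.left x) = G.hom x).trans hxs⟩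
    · rintro ⟨hy, hys⟩
      obtain ⟨x, hx, rfl⟩ := h.ge hy
      exact ⟨x, ⟨hx, ((congrArg (fun m => m x) (Over.w u) :) : H.hom (u.left x) = G.hom x).symm.trans hys⟩, rfl⟩
  have hfl : Flat u'.left := flat_of_image_neutralSet (K := S.residueField s) u' himg
  have h2 : Flat (MoreMor.fiberMap u.left H.hom s) := by
    let e : (u.left ≫ H.hom).fiber s ⟶ (Red.bc j G).left :=
      pullback.map (u.left ≫ H.hom) j G.hom j (𝟙 _) (𝟙 _) (𝟙 _) (by simp [Over.w u]) (by simp)
    haveI : IsIso e := pullback.map_isIso _ _ _ _ _ _ _ _ _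
    have : MoreMor.fiberMap u.left H.hom s = e ≫ u'.left := by
      apply pullback.hom_ext
      · rw [Category.assoc]
        refine (pullback.lift_fst _ _ _).trans ?_
        rw [show u'.left ≫ pullback.fst H.hom j = pullback.fst G.hom j ≫ u.left from pullback.lift_fst _ _ _]
        exact (pullback.lift_fst_assoc _ _ _ _).trans (by simp [Scheme.Hom.fiberι]; rfl) |>.symm
      · rw [Category.assoc]
        refine (pullback.lift_snd _ _ _).trans ?_
        rw [show u'.left ≫ pullback.snd H.hom j = pullback.snd G.hom j from Over.w u']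
        exact ((pullback.lift_snd _ _ _).trans (Category.comp_id _)).symm
    rw [this]
    exact MorphismProperty.comp_mem (W := @Flat) e u'.left (inferInstanceAs (Flat e)) hfl
  have h1 : ((u.left ≫ H.hom).stalkMap ((u.left ≫ H.hom).fiberι s z)).hom.Flat := by
    haveI : Flat (u.left ≫ H.hom) := by rw [Over.w u]; infer_instance
    exact Flat.stalkMap _ _
  have := (FlatLocus.flat_stalkMap_of_fibre u.left H.hom s z h1 (Flat.stalkMap _ _)).2
  rwa [show (u.left ≫ H.hom).fiberι s z = x from hz] at this

end Groth.Agent.Neutral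

end
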