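import Groth.Agent.Neutral.Chart
import Groth.Agent.WeilClosedLib.Transporter

/-!
Openness, compactness and ind-constructibility of the union of neutral components; the open subgroup.
-/

set_option autoImplicit false
set_option backward.isDefEq.respectTransparency false
set_option backward.isDefEq.respectTransparency.types false
set_option linter.style.haveILetI false

universe u

open CategoryTheory CategoryTheory.Limits MonoidalCategory CartesianMonoidalCategory MonObj GrpObj AlgebraicGeometry
open SGA3x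

noncomputable section

namespace Groth.Agent.Neutral

variable {S : Scheme.{u}} (G : Over S)

/-- Pairs of points of a set. -/
abbrev prodSet (Q : Set G.left) : Set (G ⊗ G).left := (fst G G).left ⁻¹' Q ∩ (snd G G).left ⁻¹' Q

theorem isCompact_prodSet (Q : G.left.Opens) (hQc : IsCompact (Q : Set G.left)) (V : S.Opens)
    [QuasiSeparatedSpace (V : Scheme)] (hQV : Q ≤ G.hom ⁻¹ᵁ V) : IsCompact (prodSet G Q) := by
  let g : (Q : Scheme) ⟶ (V : Scheme) := G.hom.resLE V Q hQV
  haveI : CompactSpace (Q : Scheme) := isCompact_iff_compactSpace.mp hQc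
  haveI : QuasiCompact g := quasiCompact_of_compactSpace g
  have e : g ≫ V.ι = Q.ι ≫ G.hom := Scheme.Hom.resLE_comp_ι _ _
  have h := isCompact_range (pullback.map g g G.hom G.hom Q.ι Q.ι V.ι e e).continuous
  rw [Scheme.Pullback.range_map, Scheme.Opens.range_ι] at h
  exact h

variable [GrpObj G]

theorem isOpen_image_mul (N : G.left.Opens) [UniversallyOpen (N.ι ≫ G.hom)] :
    IsOpen (μ[G].left '' prodSet G N) := by
  let No : Over S := Over.mk (N.ι ≫ G.hom)
  let j : No ⟶ G := Over.homMk N.ι rfl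
  haveI : UniversallyOpen No.hom := ‹_›
  haveI := GrpSchLib.universallyOpen_mulMap j
  have hr : Set.range (j ▷ G).left = (fst G G).left ⁻¹' (N : Set G.left) := by
    have h : Set.range (pullback.map No.hom G.hom G.hom G.hom N.ι (𝟙 _) (𝟙 _) (Category.comp_id _) (by simp)) = _ :=
      Scheme.Pullback.range_map No.hom G.hom G.hom G.hom N.ι (𝟙 G.left) (𝟙 S) _ _
    replace h := h.trans (show (pullback.fst G.hom G.hom) ⁻¹' Set.range N.ι ∩
        (pullback.snd G.hom G.hom) ⁻¹' Set.range (𝟙 G.left : G.left ⟶ G.left) =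
          (pullback.fst G.hom G.hom) ⁻¹' (N : Set G.left) by
      ext z
      constructor
      · rintro ⟨⟨a, ha⟩, -⟩
        show pullback.fst G.hom G.hom z ∈ N
        rw [← ha]; exact a.2
      · exact fun hz => ⟨⟨⟨_, hz⟩, rfl⟩, ⟨_, rfl⟩⟩)
    exact h
  have himg : μ[G].left '' prodSet G N =
      (j ▷ G ≫ μ[G]).left '' ((j ▷ G).left ⁻¹' ((snd G G).left ⁻¹' (N : Set G.left))) := by
    rw [show ((j ▷ G ≫ μ[G]).left : (No ⊗ G).left → G.left) = μ[G].left ∘ (j ▷ G).left from rfl,
      Set.image_comp, Set.image_preimage_eq_range_inter, hr]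
  rw [himg]
  exact (j ▷ G ≫ μ[G]).left.isOpenMap _ ((N.2.preimage (snd G G).left.continuous).preimage (j ▷ G).left.continuous)

variable {G} in
theorem image_mul_subset' {Q : Set G.left} (hQ : Q ⊆ neutralSet G) : μ[G].left '' prodSet G Q ⊆ neutralSet G :=
  (Set.image_mono (Set.inter_subset_inter (Set.preimage_mono hQ) (Set.preimage_mono hQ))).trans image_mul_subset

theorem isOpen_neutralSet (N : G.left.Opens) [UniversallyOpen (N.ι ≫ G.hom)] (he : ∀ t : S, η[G].left t ∈ N)
    (hN : (N : Set G.left) ⊆ neutralSet G) : IsOpen (neutralSet G) := by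
  have : neutralSet G = μ[G].left '' prodSet G N :=
    Set.Subset.antisymm (subset_image_mul (N : Set G.left) N.2 (Set.range_subset_iff.2 he)) (image_mul_subset' hN)
  rw [this]
  exact isOpen_image_mul G N

theorem hom_mul (w : (G ⊗ G).left) : G.hom (μ[G].left w) = G.hom ((fst G G).left w) :=
  ((congrArg (fun m => m w) ((Over.w μ[G]).trans (Over.w (fst G G)).symm)) :)

theorem exists_compact_nhd (N : G.left.Opens) {V : S.Opens} (hV : IsCompact (V : Set S))
    (he : ∀ t ∈ V, η[G].left t ∈ N) :
    ∃ Q : G.left.Opens, IsCompact (Q : Set G.left) ∧ Q ≤ N ⊓ G.hom ⁻¹ᵁ V ∧ ∀ t ∈ V, η[G].left t ∈ Q := by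
  have hc : IsCompact ((η[G].left : S ⟶ G.left) '' (V : Set S)) := hV.image (Scheme.Hom.continuous _)
  have hsub : ∀ x : ↥((η[G].left : S ⟶ G.left) '' (V : Set S)), ∃ A : G.left.Opens, IsAffineOpen A ∧ x.1 ∈ A ∧ A ≤ N ⊓ G.hom ⁻¹ᵁ V := by
    rintro ⟨_, t, ht, rfl⟩
    exact exists_isAffineOpen_mem_and_subset ⟨he t ht, show G.hom (η[G].left t) ∈ V by rw [hom_unit]; exact ht⟩
  choose A hA hxA hAN using hsub
  obtain ⟨σ, hσ⟩ := hc.elim_finite_subcover (fun x => (A x : Set G.left)) (fun x => (A x).2)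
    fun x hx => Set.mem_iUnion.2 ⟨⟨x, hx⟩, hxA _⟩
  refine ⟨⨆ x ∈ σ, A x, ?_, iSup₂_le fun x _ => hAN x, fun t ht => ?_⟩
  · simp only [TopologicalSpace.Opens.coe_iSup]
    exact σ.isCompact_biUnion fun x _ => (hA x).isCompact
  · have := hσ ⟨t, ht, rfl⟩
    rw [← SetLike.mem_coe]
    simpa only [TopologicalSpace.Opens.coe_iSup] using this

theorem inter_eq_image (Q : G.left.Opens) (V : S.Opens) (hQ : (Q : Set G.left) ⊆ neutralSet G) (hQV : Q ≤ G.hom ⁻¹ᵁ V)
    (he : ∀ t ∈ V, η[G].left t ∈ Q) : neutralSet G ∩ G.hom ⁻¹' (V : Set S) = μ[G].left '' prodSet G Q := by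
  refine Set.Subset.antisymm (fun x hx => mem_image_of_isOpen x hx.1 _ Q.2 (he _ hx.2))
    fun x hx => ⟨image_mul_subset' hQ hx, ?_⟩
  obtain ⟨w, hw, rfl⟩ := hx
  show G.hom (μ[G].left w) ∈ V
  rw [hom_mul]
  exact hQV hw.1

theorem isCompact_inter (N : G.left.Opens) (hN : (N : Set G.left) ⊆ neutralSet G) {V : S.Opens} (hV : IsAffineOpen V)
    (he : ∀ t ∈ V, η[G].left t ∈ N) : IsCompact (neutralSet G ∩ G.hom ⁻¹' (V : Set S)) := by
  haveI : IsAffine (V : Scheme) := hV
  obtain ⟨Q, hQc, hQle, heQ⟩ := exists_compact_nhd G N hV.isCompact he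
  rw [inter_eq_image G Q V ((fun x hx => hN (hQle hx).1)) (hQle.trans inf_le_right) heQ]
  exact (isCompact_prodSet G Q hQc V (hQle.trans inf_le_right)).image μ[G].left.continuous

theorem exists_subgroup (h : IsOpen (neutralSet G)) :
    ∃ (G0 : Over S) (_ : GrpObj G0) (i : G0 ⟶ G), IsMonHom i ∧ IsOpenImmersion i.left ∧
      Set.range i.left.base = neutralSet G := by
  let W : G.left.Opens := ⟨neutralSet G, h⟩
  let K : Over S := Over.mk (W.ι ≫ G.hom)
  let i : K ⟶ G := Over.homMk W.ι rfl
  haveI : IsOpenImmersion i.left := inferInstanceAs (IsOpenImmersion W.ι)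
  haveI : Mono i := (Over.forget S).mono_of_mono_map (inferInstanceAs (Mono W.ι))
  have hr : Set.range i.left = neutralSet G := W.range_ι
  have hfac : ∀ (T : Over S) (g : T ⟶ G), Set.range g.left ⊆ neutralSet G → ∃ z : T ⟶ K, z ≫ i = g := fun T g hg =>
    ⟨Over.homMk (IsOpenImmersion.lift i.left g.left (hr ▸ hg)) (by
      show _ ≫ W.ι ≫ G.hom = T.hom
      rw [← Category.assoc]
      exact (congrArg (· ≫ G.hom) (IsOpenImmersion.lift_fac i.left g.left _)).trans (Over.w g)),
      Over.OverMorphism.ext (IsOpenImmersion.lift_fac i.left g.left _)⟩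
  have hrange : ∀ (T : Over S) (a : T ⟶ K), Set.range (a ≫ i).left ⊆ neutralSet G := fun T a => by
    rintro _ ⟨t, rfl⟩
    exact hr.le ⟨a.left t, rfl⟩
  obtain ⟨str, hmon⟩ := WeilClosedLib.exists_grpObj_of_closed i
    (hfac _ η[G] (range_unit_subset (G := G)))
    (fun T a b => hfac _ _ (range_mul_subset _ _ (hrange T a) (hrange T b)))
    (fun T a => hfac _ _ (range_inv_subset _ (hrange T a)))
  exact ⟨K, str, i, hmon, inferInstance, hr⟩

theorem quasiCompact_of_range {G0 : Over S} (i : G0 ⟶ G) [IsOpenImmersion i.left]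
    (hr : Set.range i.left = neutralSet G)
    (N : G.left.Opens) (hN : (N : Set G.left) ⊆ neutralSet G) (he : ∀ t : S, η[G].left t ∈ N) :
    QuasiCompact G0.hom := by
  rw [quasiCompact_iff_forall_isAffineOpen]
  intro V hV
  rw [i.left.isOpenEmbedding.isInducing.isCompact_iff]
  have : i.left '' (G0.hom ⁻¹ᵁ V : Set G0.left) = neutralSet G ∩ G.hom ⁻¹' (V : Set S) := by
    rw [← hr, ← Over.w i, Scheme.Hom.comp_preimage]
    exact Set.image_preimage_eq_range_inter (f := i.left) (t := (G.hom ⁻¹ᵁ V : Set G.left))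
  rw [this]
  exact isCompact_inter G N hN hV fun t _ => he t

theorem isIndConstructible_chartSet [LocallyOfFinitePresentation G.hom] {V : S.Opens} {A : G.left.Opens}
    (hV : IsAffineOpen V) (hA : IsAffineOpen A) (hAV : A ≤ G.hom ⁻¹ᵁ V) (heV : ∀ t ∈ V, η[G].left t ∈ A) :
    ProCons.IsIndConstructible (chartSet hAV heV) := by
  haveI : IsAffine (V : Scheme) := hV
  haveI : IsAffine (A : Scheme) := hA
  haveI : LocallyOfFinitePresentation (chartMap hAV) := inferInstance
  haveI : QuasiSeparated (chartMap hAV) := inferInstance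
  exact ProConsLib.isIndConstructible_image A.ι ((ProConsLib.isLocallyConstructible_iff_pro_and_ind _).1
    (S1326.result (chartMap hAV) (chartSection heV) (chartSection_chartMap hAV heV))).2

theorem isIndConstructible_neutralSet [LocallyOfFinitePresentation G.hom] :
    ProCons.IsIndConstructible (neutralSet G) := by
  haveI : LocallyOfFinitePresentation (snd G G).left :=
    MorphismProperty.of_isPullback (P := @LocallyOfFinitePresentation) GrpSchLib.isPullback_fst_snd ‹_›
  haveI : LocallyOfFinitePresentation μ[G].left := by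
    haveI : IsIso (GrpSchLib.shear (𝟙 G)).hom.left :=
      inferInstanceAs (IsIso ((Over.forget _).map (GrpSchLib.shear (𝟙 G)).hom))
    rw [GrpSchLib.mul_eq_shear (G := G), Over.comp_left]
    infer_instance
  choose V A hV hA hsV _hAO hAV heA using fun s : S => exists_chart G ⊤ (fun _ => trivial) s
  have hind : ∀ s, ProCons.IsIndConstructible (μ[G].left '' prodSet G (chartSet (hAV s) (heA s))) := fun s => by
    refine ProConsLib.isIndConstructible_image μ[G].left ?_
    have h := isIndConstructible_chartSet G (hV s) (hA s) (hAV s) (heA s)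
    rw [ProConsLib.isIndConstructible_iff]
    intro U hU
    rw [Set.preimage_inter]
    exact @IsOpen.inter (U : Set (G ⊗ G).left) (constructibleTopology _) _ _
      ((ProConsLib.isIndConstructible_iff _).1 (ProConsLib.isIndConstructible_preimage (fst G G).left h) U hU)
      ((ProConsLib.isIndConstructible_iff _).1 (ProConsLib.isIndConstructible_preimage (snd G G).left h) U hU)
  have heq : neutralSet G = ⋃ s, μ[G].left '' prodSet G (chartSet (hAV s) (heA s)) := by
    refine Set.Subset.antisymm (fun x hx => Set.mem_iUnion.2 ⟨G.hom x, mem_image_of_fibre x hx _ ?_⟩)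
      (Set.iUnion_subset fun s => image_mul_subset' (chartSet_subset _ _))
    exact exists_fibre_nhd _ _ (G.hom x) (hsV (G.hom x))
  rw [heq, ProConsLib.isIndConstructible_iff]
  intro U hU
  rw [Set.preimage_iUnion]
  exact @isOpen_iUnion (U : Set G.left) _ (constructibleTopology _) _
    fun s => (ProConsLib.isIndConstructible_iff _).1 (hind s) U hU

end Groth.Agent.Neutral

end
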