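import Groth.Agent.Neutral.DimConst
import Groth.Agent.S4956
import Groth.Agent.S4925
import Groth.Agent.S4926

/-!
Universal openness along the neutral components versus constancy of the dimension of the fibres.
-/

set_option autoImplicit false
set_option backward.isDefEq.respectTransparency false
set_option backward.isDefEq.respectTransparency.types false
set_option linter.style.haveILetI false
set_option linter.unusedSectionVars false

universe u

open CategoryTheory CategoryTheory.Limits MonoidalCategory CartesianMonoidalCategory MonObj GrpObj AlgebraicGeometry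
open SGA3x

noncomputable section

namespace Groth.Agent.Neutral

variable {S : Scheme.{u}} {G : Over S} [GrpObj G] [LocallyOfFinitePresentation G.hom]

theorem isUnivOpenAt_of_openImmersion {X Y : Scheme.{u}} (j : X ⟶ Y) [IsOpenImmersion j] (x : X) :
    EGA43.IsUnivOpenAt j x := by
  intro Y' g x' _
  exact fun U hU => (pullback.snd j g).isOpenEmbedding.isOpenMap.image_mem_nhds hU

theorem isUnivOpenAt_chart_iff {V : S.Opens} {A : G.left.Opens} (hAV : A ≤ G.hom ⁻¹ᵁ V) (a : (A : Scheme)) :
    EGA43.IsUnivOpenAt (chartMap hAV) a ↔ EGA43.IsUnivOpenAt G.hom (A.ι a) := by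
  constructor
  · intro h
    have h1 := S4925.result (chartMap hAV) V.ι a h (isUnivOpenAt_of_openImmersion V.ι _)
    rw [Scheme.Hom.resLE_comp_ι] at h1
    exact S4926.result A.ι G.hom a h1
  · intro h
    have h1 := S4925.result A.ι G.hom a (isUnivOpenAt_of_openImmersion A.ι a) h
    rw [← Scheme.Hom.resLE_comp_ι G.hom hAV] at h1
    have hP : IsPullback (𝟙 (A : Scheme)) (chartMap hAV) (chartMap hAV ≫ V.ι) V.ι :=
      ⟨⟨Category.id_comp _⟩, ⟨PullbackCone.IsLimit.mk _ (fun s => s.fst) (fun s => Category.comp_id _)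
        (fun s => by rw [← cancel_mono V.ι, Category.assoc]; exact s.condition)
        (fun s m h _ => by simpa using h)⟩⟩
    exact isUnivOpenAt_of_isPullback hP a h1

theorem isUnivOpenAt_neutral (x : G.left) (hx : x ∈ neutralSet G)
    (hdim : ∃ U ∈ nhds (G.hom x), ∀ t ∈ U,
      topologicalKrullDim ↥(G.hom.base ⁻¹' {t}) = topologicalKrullDim ↥(G.hom.base ⁻¹' {G.hom x})) :
    EGA43.IsUnivOpenAt G.hom x := by
  obtain ⟨V, A, hV, hA, hsV, -, hAV, heA⟩ := exists_chart G ⊤ (fun _ => trivial) (G.hom x)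
  haveI : LocallyOfFiniteType (Red.bc (S.fromSpecResidueField (G.hom x)) G).hom :=
    MorphismProperty.pullback_snd (P := @LocallyOfFiniteType) _ _ inferInstance
  obtain ⟨w, ⟨hwa, hwb⟩, rfl⟩ := mem_image_of_fibre x hx ((A : Set G.left) ∩ neutralSet G)
    ⟨OpenSubgrp.ιs G (G.hom x) ⁻¹' (A : Set G.left) ∩ neutralSet (Red.bc (S.fromSpecResidueField (G.hom x)) G),
      (A.2.preimage (OpenSubgrp.ιs G (G.hom x)).continuous).inter isOpen_neutralSet_field,
      ⟨unit_mem_preimage heA _ hsV, by rw [neutralSet_field]; exact mem_connectedComponent⟩,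
      fun y hy => ⟨hy.1, by have := hy.2; rwa [neutralSet_bc] at this⟩⟩
  have hpt : ∀ z, z ∈ A → z ∈ neutralSet G → G.hom z = G.hom (μ[G].left w) → EGA43.IsUnivOpenAt G.hom z := by
    intro z hzA hzN hz
    exact (isUnivOpenAt_chart_iff hAV ⟨z, hzA⟩).1
      (chart_univOpen_flat hAV heA hV hA ⟨z, hzA⟩ hzN
        (by rw [show G.hom (A.ι ⟨z, hzA⟩) = G.hom (μ[G].left w) from hz]; exact hdim)).1
  have hfst : G.hom ((fst G G).left w) = G.hom (μ[G].left w) := (hom_mul G w).symm
  have hsnd : G.hom ((snd G G).left w) = G.hom (μ[G].left w) := by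
    rw [← hfst]
    exact (congrArg (fun m => m w) ((Over.w (snd G G)).trans (Over.w (fst G G)).symm) :)
  have h1 : EGA43.IsUnivOpenAt (fst G G).left w :=
    isUnivOpenAt_of_isPullback (GrpSchLib.isPullback_fst_snd (T := G) (G := G)).flip w (hpt _ hwb.1 hwb.2 hsnd)
  have h2 := S4925.result (fst G G).left G.hom w h1 (hpt _ hwa.1 hwa.2 hfst)
  rw [Over.w (fst G G), ← Over.w μ[G]] at h2
  exact S4926.result μ[G].left G.hom w h2

theorem dim_const_of_univOpen (s : S) (W : G.left.Opens) (heW : η[G].left s ∈ W)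
    (hW : ∀ x ∈ neutralSet G, G.hom x = s → x ∈ W → EGA43.IsUnivOpenAt G.hom x) :
    ∃ U : Set S, U ∈ nhds s ∧ ∀ t ∈ U,
      topologicalKrullDim ↥(G.hom.base ⁻¹' {t}) = topologicalKrullDim ↥(G.hom.base ⁻¹' {s}) := by
  obtain ⟨V, A, hV, hA, hsV, -, hAV, heA⟩ := exists_chart G ⊤ (fun _ => trivial) s
  haveI : IsAffine (V : Scheme) := hV
  haveI : IsAffine (A : Scheme) := hA
  let f := chartMap hAV
  haveI : LocallyOfFinitePresentation f := inferInstance
  haveI : QuasiSeparated f := inferInstance
  haveI : QuasiCompact f := quasiCompact_of_compactSpace f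
  let v : (V : Scheme) := ⟨s, hsV⟩
  have hcc := connectedComponentIn_chartMap_eq hAV heA
  have hirr := chart_irreducible hAV heA
  have hdimv := dim_chartMap hAV heA
  have key := S4956.result f (chartSection heA) (chartSection_chartMap hAV heA) hirr v
  suffices hh : _ ∧ _ by
    obtain ⟨U, hU, hUc⟩ := key hh.1 (Or.inr hh.2)
    refine ⟨V.ι '' U, V.ι.isOpenEmbedding.isOpenMap.image_mem_nhds hU, ?_⟩
    rintro _ ⟨z, hz, rfl⟩
    have h := hUc z hz
    rw [hdimv, hdimv] at h
    exact h
  refine ⟨?_, ?_⟩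
  · intro ξ hξ hgen
    rw [isUnivOpenAt_chart_iff]
    have hξ' := hξ
    rw [hcc] at hξ'
    refine hW _ hξ'.1 hξ'.2 ?_
    have he : chartSection heA v ∈ closure ({ξ} : Set (A : Scheme)) := hgen (mem_connectedComponentIn
      ((congrArg (fun m : (V : Scheme) ⟶ (V : Scheme) => m v) (chartSection_chartMap hAV heA) :)))
    have hsp : A.ι ξ ⤳ η[G].left s := by
      have h := (specializes_iff_mem_closure.2 he).map A.ι.continuous
      rwa [show A.ι (chartSection heA v) = η[G].left s from
        congrArg (fun m => m v) (Scheme.Hom.resLE_comp_ι (η[G].left : S ⟶ G.left) heA)] at h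
    exact hsp.mem_open W.2 heW
  · intro y _ _
    rw [hdimv]
    exact dim_chart_fibre hAV heA y

end Groth.Agent.Neutral

end
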